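import Mathlib.LinearAlgebra.Matrix.Charpoly.Coeff
import Mathlib.LinearAlgebra.Charpoly.ToMatrix
import Mathlib.LinearAlgebra.PerfectPairing.Basic
import Mathlib.RingTheory.PowerSeries.Exp
import Mathlib.RingTheory.PowerSeries.Derivative
import Mathlib.RingTheory.PowerSeries.Substitution
import Mathlib.Algebra.Polynomial.Derivative
import Mathlib.LinearAlgebra.Matrix.BilinearForm

/-!
Linear algebra for zeta functions: Jacobi's formula, `charpolyRev` as an exponential, endomorphisms
scaled by a perfect pairing.
-/

universe u v w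

open Polynomial Matrix

namespace Groth.Agent.WeilH13

section Jacobi

variable {R : Type u} [CommRing R] {n : Type v} [Fintype n] [DecidableEq n]

theorem derivative_det (A : Matrix n n R[X]) :
    derivative A.det = (A.adjugate * A.map derivative).trace := by
  have h1 : ∀ i, (A.updateCol i fun j ↦ derivative (A j i)).det =
      ∑ σ : Equiv.Perm n, (Equiv.Perm.sign σ : ℤ) •
        ((∏ j ∈ Finset.univ.erase i, A (σ j) j) * derivative (A (σ i) i)) := by
    intro i
    rw [Matrix.det_apply]
    refine Finset.sum_congr rfl fun σ _ ↦ ?_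
    rw [Units.smul_def, ← Finset.prod_erase_mul _ _ (Finset.mem_univ i)]
    congr 2
    · exact Finset.prod_congr rfl fun j hj ↦ by rw [Matrix.updateCol_ne (Finset.ne_of_mem_erase hj)]
    · rw [Matrix.updateCol_self]
  have h2 : derivative A.det = ∑ i, (A.updateCol i fun j ↦ derivative (A j i)).det := by
    simp only [h1]
    rw [Finset.sum_comm, Matrix.det_apply, derivative_sum]
    refine Finset.sum_congr rfl fun σ _ ↦ ?_
    rw [Units.smul_def, derivative_smul, derivative_prod_finset, Finset.smul_sum]
  rw [h2, Matrix.trace]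
  refine Finset.sum_congr rfl fun i _ ↦ ?_
  rw [← Matrix.cramer_apply, Matrix.cramer_eq_adjugate_mulVec, Matrix.diag_apply, Matrix.mul_apply]
  rfl

end Jacobi

section Exp

variable {K : Type u} [Field K] [CharZero K] {n : Type v} [Fintype n] [DecidableEq n]

open PowerSeries in
theorem eq_of_derivative_eq_mul {f g h : PowerSeries K} (hf : d⁄dX K f = f * h)
    (hg : d⁄dX K g = g * h) (h0 : constantCoeff f = constantCoeff g) : f = g := by
  ext m
  induction m using Nat.strong_induction_on with
  | _ m ih =>
    cases m with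
    | zero => simpa [coeff_zero_eq_constantCoeff] using h0
    | succ m =>
      have e : PowerSeries.coeff m (d⁄dX K f) = PowerSeries.coeff m (d⁄dX K g) := by
        rw [hf, hg, PowerSeries.coeff_mul, PowerSeries.coeff_mul]
        exact Finset.sum_congr rfl fun p hp ↦ by
          rw [ih p.1 (by have := Finset.mem_antidiagonal.1 hp; omega)]
      rw [PowerSeries.coeff_derivative, PowerSeries.coeff_derivative] at e
      exact mul_right_cancel₀ (Nat.cast_add_one_ne_zero m) e

/-- `charpolyRev M = exp(-∑ tr(M^m) t^m / m)`. -/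
theorem charpolyRev_eq_exp (M : Matrix n n K) :
    ((M.charpolyRev : Polynomial K) : PowerSeries K) =
      PowerSeries.subst (PowerSeries.mk fun m : ℕ => -(Matrix.trace (M ^ m)) / (m : K))
        (PowerSeries.exp K) := by
  set L : PowerSeries K := PowerSeries.mk fun m : ℕ => -(Matrix.trace (M ^ m)) / (m : K)
  have hL0 : PowerSeries.constantCoeff L = 0 := by simp [L]
  have hL : PowerSeries.HasSubst L := PowerSeries.HasSubst.of_constantCoeff_zero' hL0
  have hL' : PowerSeries.derivative K L = PowerSeries.mk fun m : ℕ => -(Matrix.trace (M ^ (m + 1))) := by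
    ext m
    rw [PowerSeries.coeff_derivative, PowerSeries.coeff_mk, PowerSeries.coeff_mk]
    rw [Nat.cast_add, Nat.cast_one, div_mul_cancel₀ _ (Nat.cast_add_one_ne_zero m)]
  refine eq_of_derivative_eq_mul (h := PowerSeries.derivative K L) ?_ ?_ ?_
  · let φ : Polynomial K →+* PowerSeries K := Polynomial.coeToPowerSeries.ringHom
    let A : Matrix n n K[X] := 1 - (Polynomial.X : K[X]) • M.map C
    let B : Matrix n n (PowerSeries K) := A.map φ
    let S : Matrix n n (PowerSeries K) := Matrix.of fun i j ↦ PowerSeries.mk fun m ↦ (M ^ m) i j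
    have hB : ∀ i j, B i j =
        (if i = j then 1 else 0) - PowerSeries.X * PowerSeries.C (M i j) := by
      intro i j
      simp only [B, A, φ, Matrix.map_apply, Matrix.sub_apply, Matrix.one_apply, Matrix.smul_apply,
        smul_eq_mul, map_sub, map_mul, Polynomial.coeToPowerSeries.ringHom_apply]
      split_ifs <;> simp
    have hBS : B * S = 1 := by
      ext i j m
      rw [Matrix.mul_apply]
      simp only [hB, sub_mul, Finset.sum_sub_distrib, map_sub, map_sum, ite_mul, one_mul, zero_mul,
        Finset.sum_ite_eq, Finset.mem_univ, if_true, mul_assoc, S, Matrix.of_apply, PowerSeries.coeff_mk]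
      cases m with
      | zero =>
        simp only [PowerSeries.coeff_zero_X_mul, Finset.sum_const_zero, sub_zero, pow_zero,
          Matrix.one_apply]
        split_ifs <;> simp
      | succ m =>
        simp only [PowerSeries.coeff_succ_X_mul, PowerSeries.coeff_C_mul, PowerSeries.coeff_mk]
        rw [← Matrix.mul_apply, ← pow_succ', sub_self, Matrix.one_apply]
        split_ifs <;> simp
    have hadj : B.adjugate = φ A.det • S := by
      calc B.adjugate = B.adjugate * (B * S) := by rw [hBS, mul_one]
        _ = (B.adjugate * B) * S := by rw [mul_assoc]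
        _ = φ A.det • S := by
          rw [Matrix.adjugate_mul, smul_mul_assoc, one_mul, show φ A.det = B.det from RingHom.map_det φ A]
    have hder : A.map derivative = -(M.map C) := by
      ext i j : 1
      simp only [A, Matrix.map_apply, Matrix.sub_apply, Matrix.one_apply, Matrix.smul_apply,
        Matrix.neg_apply, smul_eq_mul, derivative_sub, derivative_mul, derivative_X, derivative_C,
        mul_zero, add_zero, one_mul]
      split_ifs <;> simp
    rw [PowerSeries.derivative_coe, Matrix.charpolyRev, derivative_det, hder]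
    change φ (A.adjugate * -(M.map C)).trace = φ A.det * _
    rw [AddMonoidHom.map_trace, Matrix.map_mul, show A.adjugate.map φ = B.adjugate from RingHom.map_adjugate φ A,
      hadj, smul_mul_assoc, Matrix.trace_smul, smul_eq_mul, hL']
    congr 1
    ext m
    rw [Matrix.trace, map_sum, PowerSeries.coeff_mk, pow_succ, Matrix.trace, ← Finset.sum_neg_distrib]
    refine Finset.sum_congr rfl fun i _ ↦ ?_
    simp only [Matrix.diag_apply, Matrix.mul_apply, map_sum, S, Matrix.of_apply, Matrix.map_apply,
      Matrix.neg_apply, map_neg, φ, Polynomial.coeToPowerSeries.ringHom_apply, Polynomial.coe_C,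
      mul_neg, PowerSeries.coeff_mul_C, PowerSeries.coeff_mk, Finset.sum_neg_distrib]
  · rw [PowerSeries.derivative_subst hL, PowerSeries.derivative_exp]
  · rw [Polynomial.constantCoeff_coe]
    refine (show M.charpolyRev.coeff 0 = 1 by rw [coeff_zero_eq_eval_zero, eval_charpolyRev]).trans ?_
    rw [← PowerSeries.coeff_zero_eq_constantCoeff, PowerSeries.coeff_subst' hL]
    rw [finsum_eq_single _ 0 fun d hd ↦ by
      simp [PowerSeries.coeff_zero_eq_constantCoeff, map_pow, hL0, zero_pow hd]]
    simp

end Exp

section Pairing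

variable {K : Type u} [Field K] {V : Type v} {W : Type w} [AddCommGroup V] [Module K V]
  [FiniteDimensional K V] [AddCommGroup W] [Module K W] [FiniteDimensional K W]

theorem exists_dual_basis (B : V →ₗ[K] W →ₗ[K] K) [B.IsPerfPair] :
    ∃ bW : Module.Basis (Fin (Module.finrank K V)) K W,
      ∀ i j, B (Module.finBasis K V i) (bW j) = if i = j then 1 else 0 := by
  haveI : B.flip.IsPerfPair := LinearMap.IsPerfPair.flip ‹_›
  refine ⟨(Module.finBasis K V).dualBasis.map B.flip.toPerfPair.symm, fun i j ↦ ?_⟩
  rw [Module.Basis.map_apply]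
  exact ((LinearMap.congr_fun (B.flip.apply_symm_toPerfPair_self ((Module.finBasis K V).dualBasis j))
    (Module.finBasis K V i))).trans (Module.Basis.dualBasis_apply_self _ j i)

theorem transpose_mul_eq (B : V →ₗ[K] W →ₗ[K] K)
    {bW : Module.Basis (Fin (Module.finrank K V)) K W}
    (hb : ∀ i j, B (Module.finBasis K V i) (bW j) = if i = j then 1 else 0)
    (f : V →ₗ[K] V) (g : W →ₗ[K] W) (c : K) (hfg : ∀ v w, B (f v) (g w) = c * B v w) :
    (LinearMap.toMatrix (Module.finBasis K V) (Module.finBasis K V) f)ᵀ *
      LinearMap.toMatrix bW bW g = c • (1 : Matrix _ _ K) := by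
  ext i j
  have hN : ∀ l, B (Module.finBasis K V l) (g (bW j)) = LinearMap.toMatrix bW bW g l j := by
    intro l
    conv_lhs => rw [← bW.sum_repr (g (bW j)), map_sum]
    simp [hb, LinearMap.toMatrix_apply]
  have h := hfg (Module.finBasis K V i) (bW j)
  rw [← (Module.finBasis K V).sum_repr (f (Module.finBasis K V i))] at h
  simp only [map_sum, map_smul, LinearMap.sum_apply, LinearMap.smul_apply, smul_eq_mul, hN] at h
  rw [Matrix.mul_apply]
  simpa [Matrix.transpose_apply, LinearMap.toMatrix_apply, Matrix.one_apply, hb] using h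

/-- Endomorphisms scaled by a perfect pairing. -/
theorem det_smul_reverse_charpoly (B : V →ₗ[K] W →ₗ[K] K) [B.IsPerfPair]
    (f : V →ₗ[K] V) (g : W →ₗ[K] W) (c : K) (hfg : ∀ v w, B (f v) (g w) = c * B v w) :
    LinearMap.det f • (LinearMap.charpoly g).reverse =
      (-1 : K[X]) ^ Module.finrank K V * (LinearMap.charpoly f).comp (C c * Polynomial.X) := by
  obtain ⟨bW, hb⟩ := exists_dual_basis B
  have h := transpose_mul_eq B hb f g c hfg
  set M := LinearMap.toMatrix (Module.finBasis K V) (Module.finBasis K V) f
  set N := LinearMap.toMatrix bW bW g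
  rw [← LinearMap.charpoly_toMatrix g bW, ← LinearMap.charpoly_toMatrix f (Module.finBasis K V),
    ← LinearMap.det_toMatrix (Module.finBasis K V), Matrix.reverse_charpoly, Matrix.charpolyRev,
    Polynomial.smul_eq_C_mul, Matrix.charpoly, ← Polynomial.coe_compRingHom_apply, RingHom.map_det,
    RingHom.map_det, RingHom.mapMatrix_apply, ← Matrix.det_transpose (Matrix.map M C), ← Matrix.det_mul]
  conv_rhs => rw [← Matrix.det_transpose]
  rw [show ((-1 : K[X]) ^ Module.finrank K V) = (-1 : K[X]) ^ Fintype.card (Fin (Module.finrank K V)) by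
    rw [Fintype.card_fin], ← Matrix.det_smul]
  congr 1
  have hmap : Mᵀ.map C * N.map C = C c • (1 : Matrix _ _ K[X]) := by
    rw [← Matrix.map_mul, h]; ext i j : 1
    simp [Matrix.one_apply, apply_ite C]
  change (Matrix.map M C)ᵀ * (1 - (Polynomial.X : K[X]) • N.map C) = _
  rw [← Matrix.transpose_map, mul_sub, mul_one, mul_smul_comm, hmap]
  ext i j : 1
  simp only [Matrix.sub_apply, Matrix.smul_apply, Matrix.map_apply, Matrix.transpose_apply,
    RingHom.mapMatrix_apply, Matrix.charmatrix_apply, Polynomial.coe_compRingHom_apply, Matrix.one_apply,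
    smul_eq_mul, Matrix.diagonal_apply, sub_comp, C_comp]
  by_cases hij : i = j
  · subst hij; simp; ring
  · simp [hij, Ne.symm hij, M]

theorem det_mul_det (B : V →ₗ[K] W →ₗ[K] K) [B.IsPerfPair]
    (f : V →ₗ[K] V) (g : W →ₗ[K] W) (c : K) (hfg : ∀ v w, B (f v) (g w) = c * B v w) :
    LinearMap.det f * LinearMap.det g = c ^ Module.finrank K V := by
  obtain ⟨bW, hb⟩ := exists_dual_basis B
  rw [← LinearMap.det_toMatrix (Module.finBasis K V), ← LinearMap.det_toMatrix bW,
    ← Matrix.det_transpose, ← Matrix.det_mul, transpose_mul_eq B hb f g c hfg, Matrix.det_smul,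
    Matrix.det_one, mul_one, Fintype.card_fin]

/-- A perfect alternating form lives in even dimension. -/
theorem even_finrank [CharZero K] (B : V →ₗ[K] V →ₗ[K] K) [B.IsPerfPair]
    (hskew : ∀ a b, B a b = -B b a) : Even (Module.finrank K V) := by
  obtain ⟨bW, hb⟩ := exists_dual_basis B
  let M : Matrix (Fin (Module.finrank K V)) (Fin (Module.finrank K V)) K :=
    Matrix.of fun i j ↦ B (Module.finBasis K V i) (Module.finBasis K V j)
  have hM : M * ((Module.finBasis K V).toMatrix bW) = 1 := by
    ext i j
    rw [Matrix.one_apply, ← hb i j]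
    conv_rhs => rw [← (Module.finBasis K V).sum_repr (bW j), map_sum]
    simp [Matrix.mul_apply, M, Module.Basis.toMatrix_apply, mul_comm]
  have hdet : M.det ≠ 0 := by
    intro h0
    simpa [h0] using congrArg Matrix.det hM
  by_contra hodd
  rw [Nat.not_even_iff_odd] at hodd
  have hT : Mᵀ = -M := by
    ext i j; exact hskew _ _
  have := congrArg Matrix.det hT
  rw [Matrix.det_transpose, Matrix.det_neg, Fintype.card_fin, hodd.neg_one_pow, neg_one_mul] at this
  exact hdet (by linear_combination (1 / 2 : K) * this)

end Pairing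

end Groth.Agent.WeilH13
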