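import Mathlib.FieldTheory.Relrank
import Mathlib.FieldTheory.Perfect
import Mathlib.FieldTheory.IntermediateField.Adjoin.Basic
import Mathlib.RingTheory.MvPolynomial.Expand
import Mathlib.RingTheory.AlgebraicIndependent.TranscendenceBasis
import Mathlib.Algebra.CharP.Lemmas
import Mathlib.Algebra.CharP.Algebra

/-!
The degree of a field over the image of an iterated Frobenius: `[L : L^(p^e)] = (p^e)^r` for a
finitely generated extension of transcendence degree `r` of a perfect field.
-/

set_option backward.isDefEq.respectTransparency.types false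

universe u

namespace Groth.Agent.WeilH13

open MvPolynomial

variable {k K : Type u} [Field k] [Field K] [Algebra k K] (p : ℕ) [Fact p.Prime] [CharP K p] (e : ℕ)

theorem injective_digits {r : ℕ} {q : ℕ} :
    Function.Injective fun x : (Fin r → Fin q) × (Fin r →₀ ℕ) ↦
      q • x.2 + Finsupp.equivFunOnFinite.symm fun i ↦ (x.1 i : ℕ) := by
  rintro ⟨m, d⟩ ⟨m', d'⟩ h
  have hi : ∀ i, (m i : ℕ) = m' i ∧ d i = d' i := by
    intro i
    have h' : q * d i + (m i : ℕ) = q * d' i + (m' i : ℕ) := by simpa using DFunLike.congr_fun h i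
    have hm : (m i : ℕ) = m' i := by
      have := congrArg (· % q) h'
      simpa [Nat.mod_eq_of_lt (m i).2, Nat.mod_eq_of_lt (m' i).2] using this
    refine ⟨hm, Nat.eq_of_mul_eq_mul_left (Nat.zero_lt_of_lt (m i).2) ?_⟩
    omega
  exact Prod.ext (funext fun i ↦ Fin.ext (hi i).1) (Finsupp.ext fun i ↦ (hi i).2)

variable (k) in
theorem pow_sum_eq_zero {r : ℕ} [CharP k p] (a : (Fin r → Fin (p ^ e)) → MvPolynomial (Fin r) k)
    (h : ∑ m, a m ^ p ^ e * monomial (Finsupp.equivFunOnFinite.symm fun i ↦ (m i : ℕ)) 1 = 0) (m) :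
    a m = 0 := by
  classical
  haveI : ExpChar k p := ExpChar.prime Fact.out
  have hq : (p ^ e) ≠ 0 := pow_ne_zero _ (Fact.out : p.Prime).ne_zero
  ext d
  rw [coeff_zero]
  have h0 := congrArg (MvPolynomial.coeff
    ((p ^ e) • d + Finsupp.equivFunOnFinite.symm fun i ↦ (m i : ℕ))) h
  rw [coeff_sum, coeff_zero, Finset.sum_eq_single m ?_ (by simp), coeff_mul_monomial, mul_one,
    ← map_iterateFrobenius_expand, coeff_map, coeff_expand_smul _ hq, iterateFrobenius_def] at h0
  · exact eq_zero_of_pow_eq_zero h0
  · intro m' _ hne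
    conv_lhs => rw [(a m').as_sum, sum_pow_char_pow p e, Finset.sum_mul]
    simp only [monomial_pow, monomial_mul, coeff_sum, coeff_monomial]
    refine Finset.sum_eq_zero fun d' _ ↦ if_neg fun he ↦ hne ?_
    exact congrArg Prod.fst (injective_digits (a₁ := (m', d')) (a₂ := (m, d)) he)

variable [PerfectField k]

theorem algebraMap_mem_map_iterateFrobenius (E : IntermediateField k K) (c : k) :
    algebraMap k K c ∈ E.toSubfield.map (iterateFrobenius K p e) := by
  haveI : CharP k p := (RingHom.charP_iff_charP (algebraMap k K) p).2 ‹_›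
  haveI : ExpChar k p := ExpChar.prime Fact.out
  haveI : PerfectRing k p := PerfectField.toPerfectRing p
  refine Subfield.mem_map.2 ⟨algebraMap k K ((iterateFrobeniusEquiv k p e).symm c), E.algebraMap_mem _, ?_⟩
  rw [iterateFrobenius_def, ← map_pow]
  exact congrArg _ ((iterateFrobeniusEquiv k p e).apply_symm_apply c)

theorem relfinrank_map_adjoin {r : ℕ} {t : Fin r → K} (ht : AlgebraicIndependent k t) :
    Subfield.relfinrank ((IntermediateField.adjoin k (Set.range t)).toSubfield.map (iterateFrobenius K p e))
      (IntermediateField.adjoin k (Set.range t)).toSubfield = (p ^ e) ^ r := by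
  classical
  haveI : CharP k p := (RingHom.charP_iff_charP (algebraMap k K) p).2 ‹_›
  have hq : 0 < p ^ e := pow_pos (Fact.out : p.Prime).pos e
  set E := IntermediateField.adjoin k (Set.range t) with hE
  set E' := E.toSubfield.map (iterateFrobenius K p e) with hE'
  have hle : E' ≤ E.toSubfield := by
    rintro x hx
    obtain ⟨y, hy, rfl⟩ := Subfield.mem_map.1 hx
    exact pow_mem hy _
  rw [Subfield.relfinrank_eq_finrank_of_le hle]
  set F := Subfield.extendScalars hle
  let mon : (Fin r → Fin (p ^ e)) → MvPolynomial (Fin r) k := fun m ↦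
    monomial (Finsupp.equivFunOnFinite.symm fun i ↦ (m i : ℕ)) 1
  have hmon : ∀ m, MvPolynomial.aeval t (mon m) ∈ F := fun m ↦
    IntermediateField.algebra_adjoin_le_adjoin k _ ((Algebra.adjoin_range_eq_range_aeval k t).ge ⟨_, rfl⟩)
  let v : (Fin r → Fin (p ^ e)) → F := fun m ↦ ⟨_, hmon m⟩
  have hind : LinearIndependent E' v := by
    rw [Fintype.linearIndependent_iff]
    intro g hg
    have hrep : ∀ m, ∃ a b : MvPolynomial (Fin r) k, b ≠ 0 ∧
        (g m : K) = (aeval t a / aeval t b) ^ p ^ e := by
      intro m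
      obtain ⟨y, hy, hy'⟩ := Subfield.mem_map.1 (g m).2
      obtain ⟨a, b, rfl⟩ := (IntermediateField.mem_adjoin_range_iff k t y).1 hy
      by_cases hb : b = 0
      · exact ⟨0, 1, one_ne_zero, by simpa [hb, iterateFrobenius_def, zero_pow hq.ne'] using hy'.symm⟩
      · exact ⟨a, b, hb, by rw [← hy', iterateFrobenius_def]⟩
    choose a b hb hab using hrep
    have hb' : ∀ m, aeval t (b m) ≠ 0 := fun m ↦
      (map_ne_zero_iff (aeval t) ht).2 (hb m)
    let c : (Fin r → Fin (p ^ e)) → MvPolynomial (Fin r) k := fun m ↦ a m * ∏ m' ∈ Finset.univ.erase m, b m'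
    have hc : ∀ m, (g m : K) * (aeval t (∏ m', b m')) ^ p ^ e = (aeval t (c m)) ^ p ^ e := by
      intro m
      rw [hab, ← mul_pow, ← Finset.prod_erase_mul _ _ (Finset.mem_univ m)]
      simp only [c, map_mul]
      congr 1
      field_simp [hb' m]
    have hsum : aeval t (∑ m, c m ^ p ^ e * mon m) = 0 := by
      rw [map_sum]
      simp only [map_mul, map_pow, ← hc]
      have h0 : ∑ m, (g m : K) * aeval t (mon m) = 0 := by
        have := congrArg Subtype.val hg
        simpa [IntermediateField.coe_sum, Subfield.smul_def, v] using this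
      rw [Finset.sum_congr rfl fun m _ ↦ mul_right_comm (g m : K) _ (aeval t (mon m)), ← Finset.sum_mul, h0,
        zero_mul]
    intro m
    have hcm := pow_sum_eq_zero k p e c ((map_eq_zero_iff (aeval t) ht).1 hsum) m
    have := hc m
    rw [hcm, map_zero, zero_pow hq.ne', mul_eq_zero] at this
    exact Subtype.ext (this.resolve_right (pow_ne_zero _ ((map_ne_zero_iff (aeval t) ht).2
      (Finset.prod_ne_zero_iff.2 fun m' _ ↦ hb m'))))
  -- spanning
  let S : Submodule E' K := Submodule.span E' (Set.range fun m ↦ (v m : K))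
  have haeval : ∀ a : MvPolynomial (Fin r) k, aeval t a ∈ S := by
    intro a
    induction a using MvPolynomial.induction_on' with
    | add f g hf hg => rw [map_add]; exact add_mem hf hg
    | monomial d c =>
      let m : Fin r → Fin (p ^ e) := fun i ↦ ⟨d i % p ^ e, Nat.mod_lt _ hq⟩
      let d' : Fin r →₀ ℕ := Finsupp.equivFunOnFinite.symm fun i ↦ d i / p ^ e
      have hd : d = (p ^ e) • d' + Finsupp.equivFunOnFinite.symm fun i ↦ (m i : ℕ) := by
        ext i; simp [d', m, Nat.div_add_mod]
      have hcmem : algebraMap k K c * aeval t (monomial d' (1 : k)) ^ p ^ e ∈ E' :=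
        mul_mem (algebraMap_mem_map_iterateFrobenius p e E c) (Subfield.mem_map.2
          ⟨_, IntermediateField.algebra_adjoin_le_adjoin k _
            ((Algebra.adjoin_range_eq_range_aeval k t).ge ⟨_, rfl⟩), iterateFrobenius_def _ _ _⟩)
      have he : aeval t (monomial d c) = (⟨_, hcmem⟩ : E') • (v m : K) := by
        rw [Subfield.smul_def, smul_eq_mul]
        change _ = algebraMap k K c * aeval t (monomial d' (1 : k)) ^ p ^ e * aeval t (mon m)
        rw [← map_pow, ← aeval_C (R := k) t c, ← map_mul, ← map_mul, monomial_pow, C_mul_monomial,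
          monomial_mul, one_pow, mul_one, mul_one, ← hd]
      rw [he]
      exact Submodule.smul_mem _ _ (Submodule.subset_span ⟨m, rfl⟩)
  have hspan : ⊤ ≤ Submodule.span E' (Set.range v) := by
    rintro ⟨x, hx⟩ -
    obtain ⟨a, b, rfl⟩ := (IntermediateField.mem_adjoin_range_iff k t x).1 hx
    have hmem : aeval t a / aeval t b ∈ S := by
      have hb : (aeval t b ^ p ^ e)⁻¹ ∈ E' := inv_mem (Subfield.mem_map.2
        ⟨_, IntermediateField.algebra_adjoin_le_adjoin k _
          ((Algebra.adjoin_range_eq_range_aeval k t).ge ⟨_, rfl⟩), iterateFrobenius_def _ _ _⟩)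
      have he : aeval t a / aeval t b =
          (⟨_, hb⟩ : E') • aeval t (a * b ^ (p ^ e - 1)) := by
        rw [Subfield.smul_def, smul_eq_mul, map_mul, map_pow]
        by_cases hb0 : aeval t b = 0
        · simp [hb0, zero_pow hq.ne']
        · have : aeval t b ^ p ^ e = aeval t b ^ (p ^ e - 1) * aeval t b := by
            rw [← pow_succ, Nat.sub_add_cancel hq]
          change _ = (aeval t b ^ p ^ e)⁻¹ * (aeval t a * aeval t b ^ (p ^ e - 1))
          rw [this]; field_simp
      rw [he]
      exact Submodule.smul_mem _ _ (haeval _)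
    have hS : S = (Submodule.span E' (Set.range v)).map F.val.toLinearMap := by
      rw [Submodule.map_span, ← Set.range_comp]; rfl
    rw [hS] at hmem
    obtain ⟨y, hy, hy'⟩ := hmem
    exact (Subtype.ext hy' : y = ⟨_, hx⟩) ▸ hy
  rw [Module.finrank_eq_card_basis (Module.Basis.mk hind hspan), Fintype.card_fun, Fintype.card_fin,
    Fintype.card_fin]

theorem finrank_fieldRange_iterateFrobenius {r : ℕ} {t : Fin r → K} (ht : IsTranscendenceBasis k t)
    [Module.Finite (IntermediateField.adjoin k (Set.range t)) K] :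
    Module.finrank (iterateFrobenius K p e).fieldRange K = (p ^ e) ^ r := by
  set E := IntermediateField.adjoin k (Set.range t)
  set φ := iterateFrobenius K p e
  have hd : 0 < Subfield.relfinrank E.toSubfield ⊤ := by
    rw [Subfield.relfinrank_top_right]
    exact (Module.finrank_pos (R := E) (M := K))
  have hle : E.toSubfield.map φ ≤ E.toSubfield := by
    rintro x hx
    obtain ⟨y, hy, rfl⟩ := Subfield.mem_map.1 hx
    exact pow_mem hy _
  have h1 := Subfield.relfinrank_mul_relfinrank hle (le_top : E.toSubfield ≤ ⊤)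
  have h2 := Subfield.relfinrank_mul_relfinrank
    ((Subfield.gc_map_comap φ).monotone_l (le_top : E.toSubfield ≤ ⊤)) (le_top : (⊤ : Subfield K).map φ ≤ ⊤)
  rw [Subfield.relfinrank_map_map] at h2
  rw [relfinrank_map_adjoin p e ht.1, ← h2, mul_comm] at h1
  rw [RingHom.fieldRange_eq_map, ← Subfield.relfinrank_top_right]
  exact (Nat.eq_of_mul_eq_mul_left hd h1).symm

theorem finrank_fieldRange_iterateFrobenius_of_fg {r : ℕ} (hr : Algebra.trdeg k K = r)
    {S : Set K} (hS : S.Finite) (hgen : IntermediateField.adjoin k S = ⊤) :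
    Module.finrank (iterateFrobenius K p e).fieldRange K = (p ^ e) ^ r := by
  obtain ⟨s, hs⟩ := exists_isTranscendenceBasis k K
  have hcard : Cardinal.mk s = r := hs.cardinalMk_eq_trdeg.trans hr
  haveI : Finite s := Cardinal.lt_aleph0_iff_finite.1 (hcard ▸ Cardinal.natCast_lt_aleph0)
  let ε : Fin r ≃ s := (Finite.equivFinOfCardEq (α := s) (n := r) (by rw [Nat.card, hcard, Cardinal.toNat_natCast])).symm
  have ht : IsTranscendenceBasis k (fun i ↦ (ε i : K)) := (isTranscendenceBasis_equiv ε).2 hs
  haveI := ht.isAlgebraic_field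
  haveI : Module.Finite (IntermediateField.adjoin k (Set.range fun i ↦ (ε i : K))) K := by
    haveI : Finite S := hS.to_subtype
    set L := IntermediateField.adjoin k (Set.range fun i ↦ (ε i : K))
    haveI : FiniteDimensional L (IntermediateField.adjoin L S) :=
      IntermediateField.finiteDimensional_adjoin fun x _ ↦ Algebra.IsIntegral.isIntegral x
    have htop : IntermediateField.adjoin L S = ⊤ := by
      apply IntermediateField.restrictScalars_injective k
      rw [IntermediateField.restrictScalars_top, IntermediateField.restrictScalars_adjoin, eq_top_iff, ← hgen]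
      exact IntermediateField.adjoin.mono _ _ _ Set.subset_union_right
    rw [htop] at this
    exact Module.Finite.equiv (IntermediateField.topEquiv (F := L) (E := K)).toLinearEquiv
  exact finrank_fieldRange_iterateFrobenius p e ht

end Groth.Agent.WeilH13
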