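import Groth.Agent.Lib.WeilH13.Cycle
import Groth.Agent.Lib.WeilH13.PFrob
import Groth.Agent.Lib.WeilH13.LinAlg
import Mathlib.AlgebraicGeometry.Morphisms.Affine
import Mathlib.AlgebraicGeometry.Morphisms.Flat
import Mathlib.FieldTheory.Finite.Basic

/-!
The `q`-Frobenius of `X ⊗_{k₀} k` relative to `k`: residue fields and degree.
-/

set_option backward.isDefEq.respectTransparency.types false
universe u v w

open AlgebraicGeometry CategoryTheory

namespace Groth.Agent.WeilH13

open WeilCoh Groth.Agent.VarDim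

theorem appLE_congr_hom {X Y : Scheme.{u}} {f g : X ⟶ Y} (h : f = g) (U : Y.Opens) (V : X.Opens)
    (e₁ : V ≤ f ⁻¹ᵁ U) (e₂ : V ≤ g ⁻¹ᵁ U) : f.appLE U V e₁ = g.appLE U V e₂ := by
  subst h; rfl

theorem residueFieldMap_evaluation {X Y : Scheme.{u}} (f : X ⟶ Y) {U : Y.Opens} {V : X.Opens}
    (e : V ≤ f ⁻¹ᵁ U) (x : X) (hx : x ∈ V) (s : Γ(Y, U)) :
    f.residueFieldMap x (Y.evaluation U (f x) (e hx) s) =
      X.evaluation V x hx (f.appLE U V e s) := by
  rw [Scheme.evaluation_naturality_apply, Scheme.Hom.appLE, Scheme.evaluation, Scheme.evaluation,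
    ← ConcreteCategory.comp_apply, ← ConcreteCategory.comp_apply, Category.assoc,
    TopCat.Presheaf.germ_res_assoc]

/-- A pushout of commutative rings is generated by the two images. -/
theorem closure_eq_top_of_isPushout {Z A B P : CommRingCat.{u}} {f : Z ⟶ A} {g : Z ⟶ B} {inl : A ⟶ P}
    {inr : B ⟶ P} (h : IsPushout f g inl inr) :
    Subring.closure (Set.range inl ∪ Set.range inr) = ⊤ := by
  set S := Subring.closure (Set.range inl ∪ Set.range inr)
  let l : A ⟶ CommRingCat.of S :=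
    CommRingCat.ofHom (inl.hom.codRestrict S fun a ↦ Subring.subset_closure (Or.inl ⟨a, rfl⟩))
  let r : B ⟶ CommRingCat.of S :=
    CommRingCat.ofHom (inr.hom.codRestrict S fun a ↦ Subring.subset_closure (Or.inr ⟨a, rfl⟩))
  have hw : f ≫ l = g ≫ r := by
    refine CommRingCat.hom_ext (RingHom.ext fun z ↦ Subtype.ext ?_)
    exact ConcreteCategory.congr_hom h.w z
  have hid : h.desc l r hw ≫ CommRingCat.ofHom S.subtype = 𝟙 P := by
    apply h.hom_ext
    · rw [h.inl_desc_assoc]; rfl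
    · rw [h.inr_desc_assoc]; rfl
  rw [eq_top_iff]
  intro x _
  rw [show x = (h.desc l r hw ≫ CommRingCat.ofHom S.subtype) x by rw [hid]; rfl]
  exact (h.desc l r hw x).2

/-- The data of a variety over `k` obtained by base change from a scheme over a finite field `k₀`,
with the `k`-linear Frobenius. -/
structure FrobData (k₀ : Type u) [Field k₀] (k : Type u) [Field k] [Algebra k₀ k] where
  X : Scheme.{u}
  f : X ⟶ Spec (CommRingCat.of k₀)
  FX : X ⟶ X
  base : FX.base = 𝟙 _
  le : ∀ U : X.Opens, U ≤ FX ⁻¹ᵁ U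
  app : ∀ (U : X.Opens) (s : Γ(X, U)), (FX.appLE U U (le U)).hom s = s ^ Nat.card k₀
  Xb : Var k
  π : Xb.obj.left ⟶ X
  isPb : IsPullback π Xb.obj.hom f (Spec.map (CommRingCat.ofHom (algebraMap k₀ k)))
  F : Xb ⟶ Xb
  comm : sm F ≫ π = π ≫ FX

namespace FrobData

variable {k₀ k : Type u} [Field k₀] [Field k] [Algebra k₀ k] (D : FrobData k₀ k)

theorem π_F (x : D.Xb.obj.left) : D.π (sm D.F x) = D.π x := by
  have h := ConcreteCategory.congr_hom (congrArg (fun φ : D.Xb.obj.left ⟶ D.X ↦ φ.base) D.comm) x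
  simp only [Scheme.Hom.comp_base, TopCat.comp_app, D.base] at h
  exact h

/-- The chart over an open of `X`. -/
noncomputable abbrev chart (U : D.X.Opens) : D.Xb.obj.left.Opens := D.π ⁻¹ᵁ U

theorem chart_le (U : D.X.Opens) : D.chart U ≤ sm D.F ⁻¹ᵁ D.chart U := fun x hx ↦ by
  change D.π (sm D.F x) ∈ U
  rw [D.π_F]; exact hx

theorem isAffineOpen_chart {U : D.X.Opens} (hU : IsAffineOpen U) : IsAffineOpen (D.chart U) := by
  haveI : IsAffineHom D.π := MorphismProperty.of_isPullback D.isPb.flip inferInstance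
  exact hU.preimage D.π

/-- The endomorphism of the sections of a chart induced by the Frobenius. -/
noncomputable def ψ (U : D.X.Opens) : Γ(D.Xb.obj.left, D.chart U) →+* Γ(D.Xb.obj.left, D.chart U) :=
  ((sm D.F).appLE (D.chart U) (D.chart U) (D.chart_le U)).hom

theorem ψ_π (U : D.X.Opens) (a : Γ(D.X, U)) :
    D.ψ U (D.π.appLE U (D.chart U) le_rfl a) = (D.π.appLE U (D.chart U) le_rfl a) ^ Nat.card k₀ := by
  have h1 := Scheme.Hom.appLE_comp_appLE (sm D.F) D.π U (D.chart U) (D.chart U) le_rfl (D.chart_le U)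
  have h2 := Scheme.Hom.appLE_comp_appLE D.π D.FX U U (D.chart U) (D.le U) le_rfl
  have h3 := h1.trans ((appLE_congr_hom D.comm _ _ _ (fun x hx ↦ D.le U hx)).trans h2.symm)
  rw [ψ]
  refine (ConcreteCategory.congr_hom h3 a).trans ?_
  change D.π.appLE U (D.chart U) le_rfl (D.FX.appLE U U (D.le U) a) = _
  rw [show D.FX.appLE U U (D.le U) a = a ^ Nat.card k₀ from D.app U a, map_pow]

theorem ψ_scalar (U : D.X.Opens) (c : k) :
    D.ψ U (baseToSections D.Xb.obj.hom (D.chart U) c) = baseToSections D.Xb.obj.hom (D.chart U) c := by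
  have e : ∀ V : D.Xb.obj.left.Opens, D.Xb.obj.hom.appTop ≫ D.Xb.obj.left.presheaf.map (homOfLE le_top).op =
      D.Xb.obj.hom.appLE ⊤ V (by simp) := fun V ↦ rfl
  simp only [ψ, baseToSections, CommRingCat.hom_comp, RingHom.comp_apply]
  refine Eq.trans ?_ (ConcreteCategory.congr_hom (e (D.chart U)).symm _)
  refine (ConcreteCategory.congr_hom ((Scheme.Hom.appLE_comp_appLE (sm D.F) D.Xb.obj.hom ⊤
    (D.chart U) (D.chart U) (by simp) (D.chart_le U)).trans
      (appLE_congr_hom (Over.w D.F.hom) _ _ _ (by simp))) _)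

theorem chart_generated {U : D.X.Opens} (hU : IsAffineOpen U) :
    Subring.closure (Set.range (D.π.appLE U (D.chart U) le_rfl) ∪
      Set.range (baseToSections D.Xb.obj.hom (D.chart U))) = ⊤ := by
  have hsrc : U ≤ D.f ⁻¹ᵁ ⊤ := by simp
  have hUY : D.chart U = D.π ⁻¹ᵁ U ⊓ D.Xb.obj.hom ⁻¹ᵁ ⊤ := by simp
  haveI := isIso_pushoutSection_of_isAffineOpen D.isPb (US := ⊤) (UT := ⊤) (by simp) hsrc hUY
    (isAffineOpen_top _) (isAffineOpen_top _) hU
  have h := closure_eq_top_of_isPushout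
    ((isIso_pushoutSection_iff D.isPb (US := ⊤) (UT := ⊤) (by simp) hsrc hUY).1 ‹_›)
  refine top_le_iff.1 (h.ge.trans (Subring.closure_mono ?_))
  rintro _ (⟨a, rfl⟩ | ⟨b, rfl⟩)
  · exact Or.inl ⟨a, rfl⟩
  · refine Or.inr ⟨(Scheme.ΓSpecIso (CommRingCat.of k)).hom b, ?_⟩
    simp only [baseToSections, ← ConcreteCategory.comp_apply, Iso.hom_inv_id_assoc]
    rfl

theorem exists_chart (x : D.Xb.obj.left) : ∃ U : D.X.Opens, IsAffineOpen U ∧ x ∈ D.chart U := by
  obtain ⟨U, hU, hx, -⟩ := exists_isAffineOpen_mem_and_subset (U := (⊤ : D.X.Opens)) (x := D.π x) trivial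
  exact ⟨U, hU, hx⟩

/-- The residue field at a point is generated by the scalars and the values of sections of `X`. -/
theorem subfield_eq_top {U : D.X.Opens} (hU : IsAffineOpen U) (x : D.Xb.obj.left) (hx : x ∈ D.chart U)
    (S : Subfield (D.Xb.obj.left.residueField x))
    (h₁ : ∀ a, D.Xb.obj.left.evaluation (D.chart U) x hx (D.π.appLE U (D.chart U) le_rfl a) ∈ S)
    (h₂ : ∀ c, baseToRes D.Xb.obj.hom x c ∈ S) : S = ⊤ := by
  have hall : ∀ b, D.Xb.obj.left.evaluation (D.chart U) x hx b ∈ S := by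
    intro b
    have hb : b ∈ Subring.closure (Set.range (D.π.appLE U (D.chart U) le_rfl) ∪
        Set.range (baseToSections D.Xb.obj.hom (D.chart U))) := (D.chart_generated hU).ge trivial
    refine (Subring.closure_le (t := S.toSubring.comap (D.Xb.obj.left.evaluation (D.chart U) x hx).hom)).2 ?_ hb
    rintro _ (⟨a, rfl⟩ | ⟨c, rfl⟩)
    · exact h₁ a
    · change (D.Xb.obj.left.evaluation (D.chart U) x hx).hom (baseToSections _ _ c) ∈ S
      rw [← RingHom.comp_apply, evaluation_comp_baseToSections]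
      exact h₂ c
  rw [eq_top_iff]
  intro z _
  obtain ⟨a, b, rfl⟩ := exists_evaluation_eq_div (D.isAffineOpen_chart hU) x hx z
  exact div_mem (hall a) (hall b)

variable [Finite k₀] [IsAlgClosed k]

theorem exists_prime : ∃ (p : ℕ) (e : ℕ), p.Prime ∧ CharP k p ∧ Nat.card k₀ = p ^ e := by
  letI := Fintype.ofFinite k₀
  obtain ⟨p, hp⟩ := CharP.exists k₀
  obtain ⟨e, hprime, he⟩ := FiniteField.card k₀ p
  exact ⟨p, e, hprime, (RingHom.charP_iff_charP (algebraMap k₀ k) p).1 hp, by rw [Nat.card_eq_fintype_card]; exact he⟩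

theorem charP_residueField (x : D.Xb.obj.left) {p : ℕ} (hp : CharP k p) :
    CharP (D.Xb.obj.left.residueField x) p :=
  (RingHom.charP_iff_charP (baseToRes D.Xb.obj.hom x) p).1 hp

theorem residueFieldMap_scalar (x : D.Xb.obj.left) (c : k) :
    (sm D.F).residueFieldMap x (baseToRes D.Xb.obj.hom (sm D.F x) c) = baseToRes D.Xb.obj.hom x c := by
  have h := RingHom.congr_fun (baseToRes_comp D.Xb.obj.hom (sm D.F) x) c
  refine h.symm.trans ?_
  have he : sm D.F ≫ D.Xb.obj.hom = D.Xb.obj.hom := Over.w D.F.hom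
  rw [he]

theorem fieldRange_residueFieldMap (x : D.Xb.obj.left) {p e : ℕ} [Fact p.Prime]
    [CharP (D.Xb.obj.left.residueField x) p] (hcard : Nat.card k₀ = p ^ e) :
    ((sm D.F).residueFieldMap x).hom.fieldRange = (iterateFrobenius (D.Xb.obj.left.residueField x) p e).fieldRange := by
  haveI hk : CharP k p := (RingHom.charP_iff_charP (baseToRes D.Xb.obj.hom x) p).2 ‹_›
  haveI : ExpChar k p := ExpChar.prime Fact.out
  haveI : PerfectRing k p := PerfectField.toPerfectRing p
  obtain ⟨U, hU, hx⟩ := D.exists_chart x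
  set φ := ((sm D.F).residueFieldMap x).hom
  have hFx : sm D.F x ∈ D.chart U := D.chart_le U hx
  have hπa : ∀ a, φ (D.Xb.obj.left.evaluation (D.chart U) (sm D.F x) hFx (D.π.appLE U (D.chart U) le_rfl a)) =
      (D.Xb.obj.left.evaluation (D.chart U) x hx (D.π.appLE U (D.chart U) le_rfl a)) ^ p ^ e := by
    intro a
    refine (residueFieldMap_evaluation (sm D.F) (D.chart_le U) x hx _).trans ?_
    rw [show (sm D.F).appLE (D.chart U) (D.chart U) (D.chart_le U) (D.π.appLE U (D.chart U) le_rfl a) =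
      (D.π.appLE U (D.chart U) le_rfl a) ^ Nat.card k₀ from D.ψ_π U a, map_pow, hcard]
  refine le_antisymm ?_ ?_
  · have htop := D.subfield_eq_top hU (sm D.F x) hFx
      (((iterateFrobenius (D.Xb.obj.left.residueField x) p e).fieldRange).comap φ) (fun a ↦ ?_) (fun c ↦ ?_)
    · rintro _ ⟨z, rfl⟩
      exact htop.ge (show z ∈ (⊤ : Subfield _) from trivial)
    · rw [Subfield.mem_comap, hπa]
      exact ⟨_, iterateFrobenius_def _ _ _⟩
    · rw [Subfield.mem_comap]
      refine ⟨baseToRes D.Xb.obj.hom x ((iterateFrobeniusEquiv k p e).symm c), ?_⟩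
      rw [iterateFrobenius_def, ← map_pow]
      refine Eq.trans ?_ (D.residueFieldMap_scalar x c).symm
      exact congrArg _ ((iterateFrobeniusEquiv k p e).apply_symm_apply c)
  · have htop := D.subfield_eq_top hU x hx (φ.fieldRange.comap (iterateFrobenius _ p e)) (fun a ↦ ?_) (fun c ↦ ?_)
    · rintro _ ⟨z, rfl⟩
      exact htop.ge (show z ∈ (⊤ : Subfield _) from trivial)
    · rw [Subfield.mem_comap, iterateFrobenius_def, ← hπa]
      exact ⟨_, rfl⟩
    · rw [Subfield.mem_comap, iterateFrobenius_def, ← map_pow]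
      exact ⟨_, D.residueFieldMap_scalar x _⟩

theorem exists_finite_generators (x : D.Xb.obj.left) :
    letI := resAlg D.Xb.obj.hom x
    ∃ S : Set (D.Xb.obj.left.residueField x), S.Finite ∧ IntermediateField.adjoin k S = ⊤ := by
  letI := resAlg D.Xb.obj.hom x
  obtain ⟨V, hV, hx, -⟩ := exists_isAffineOpen_mem_and_subset (U := (⊤ : D.Xb.obj.left.Opens)) (x := x) trivial
  letI : Algebra k Γ(D.Xb.obj.left, V) := (baseToSections D.Xb.obj.hom V).toAlgebra
  haveI : Algebra.FiniteType k Γ(D.Xb.obj.left, V) := finiteType_baseToSections D.Xb.obj.hom hV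
  obtain ⟨s, hs⟩ := Algebra.FiniteType.out (R := k) (A := Γ(D.Xb.obj.left, V))
  let ψ : Γ(D.Xb.obj.left, V) →ₐ[k] D.Xb.obj.left.residueField x :=
    { (D.Xb.obj.left.evaluation V x hx).hom with
      commutes' := fun c => RingHom.congr_fun (evaluation_comp_baseToSections D.Xb.obj.hom x hx) c }
  refine ⟨ψ '' (s : Set Γ(D.Xb.obj.left, V)), s.finite_toSet.image _, eq_top_iff.2 fun z _ ↦ ?_⟩
  have hall : ∀ b, ψ b ∈ IntermediateField.adjoin k (ψ '' (s : Set Γ(D.Xb.obj.left, V))) := by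
    intro b
    have hb : ψ b ∈ (Algebra.adjoin k (s : Set Γ(D.Xb.obj.left, V))).map ψ := ⟨b, hs.ge trivial, rfl⟩
    rw [AlgHom.map_adjoin] at hb
    exact IntermediateField.algebra_adjoin_le_adjoin k _ hb
  obtain ⟨a, b, rfl⟩ := exists_evaluation_eq_div hV x hx z
  exact div_mem (hall a) (hall b)

theorem residueDegree_F (x : D.Xb.obj.left) :
    (sm D.F).residueDegree x = Nat.card k₀ ^ sdim D.Xb.obj.hom x := by
  obtain ⟨p, e, hp, hchar, hcard⟩ := exists_prime (k₀ := k₀) (k := k)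
  haveI : Fact p.Prime := ⟨hp⟩
  haveI := D.charP_residueField x hchar
  letI := resAlg D.Xb.obj.hom x
  obtain ⟨S, hS, hgen⟩ := D.exists_finite_generators x
  have hrk := finrank_fieldRange_iterateFrobenius_of_fg (k := k) p e (trdeg_residueField D.Xb.obj.hom x) hS hgen
  rw [hcard, ← hrk, ← D.fieldRange_residueFieldMap x hcard]
  letI := ((sm D.F).residueFieldMap x).hom.toAlgebra
  exact Algebra.finrank_eq_of_equiv_equiv
    (RingEquiv.ofBijective ((sm D.F).residueFieldMap x).hom.rangeRestrictField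
      ((sm D.F).residueFieldMap x).hom.rangeRestrictField_bijective)
    (RingEquiv.refl _) rfl

theorem pdim_F (x : D.Xb.obj.left) : pdim D.Xb.obj.left (sm D.F x) = pdim D.Xb.obj.left x := by
  refine pdim_eq_of_residueDegree_ne_zero D.F x ?_
  rw [D.residueDegree_F]
  exact pow_ne_zero _ Nat.card_pos.ne'

theorem F_genericPoint : sm D.F (genericPoint D.Xb.obj.left) = genericPoint D.Xb.obj.left := by
  by_contra hne
  have h := D.pdim_F (genericPoint D.Xb.obj.left)
  rw [sdim_eq_pdim, sdim_eq_pdim] at h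
  exact (sdim_lt_of_specializes D.Xb.obj.hom (genericPoint_specializes _) (Ne.symm hne)).ne h

variable {K : Type v} [Field K] (T : TheoryOn.{u, v, w} k (IsVar k) K)

theorem tr_pull_F {a : T.H D.Xb} (ha : a ∈ T.gr D.Xb (2 * (dim D.Xb.obj.left : ℤ))) :
    T.tr D.Xb (T.pull D.F a) = (Nat.card k₀ : K) ^ dim D.Xb.obj.left * T.tr D.Xb a := by
  rw [tr_pull T _ _ D.F D.F_genericPoint rfl ha, D.residueDegree_F, ← sdim_genericPoint, Nat.cast_pow]

theorem pairing_pull_F {i j : ℤ} (hij : i + j = 2 * (dim D.Xb.obj.left : ℤ))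
    (v : T.gr D.Xb i) (w : T.gr D.Xb j) :
    pairing K (T.gr D.Xb i) (T.gr D.Xb j) (T.tr D.Xb) (T.pullDeg D.F i v) (T.pullDeg D.F j w) =
      (Nat.card k₀ : K) ^ dim D.Xb.obj.left * pairing K (T.gr D.Xb i) (T.gr D.Xb j) (T.tr D.Xb) v w := by
  have := D.tr_pull_F T (eq_of_mem T hij (mul_mem T v.2 w.2))
  rw [map_mul] at this
  exact this

theorem det_mul_det_F (i : ℤ) :
    LinearMap.det (T.pullDeg D.F (2 * (dim D.Xb.obj.left : ℤ) - i)) * LinearMap.det (T.pullDeg D.F i) =
      (Nat.card k₀ : K) ^ (dim D.Xb.obj.left * Module.finrank K ↥(T.gr D.Xb i)) := by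
  have hij : i + (2 * (dim D.Xb.obj.left : ℤ) - i) = 2 * (dim D.Xb.obj.left : ℤ) := by ring
  haveI := T.duality D.Xb i _ hij
  rw [mul_comm, pow_mul]
  exact det_mul_det (pairing K (T.gr D.Xb i) (T.gr D.Xb _) (T.tr D.Xb)) _ _ _ (D.pairing_pull_F T hij)

theorem det_smul_reverse_charpoly_F (i : ℤ) :
    LinearMap.det (T.pullDeg D.F i) •
        (LinearMap.charpoly (T.pullDeg D.F (2 * (dim D.Xb.obj.left : ℤ) - i))).reverse =
      (-1 : Polynomial K) ^ Module.finrank K ↥(T.gr D.Xb i) *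
        (LinearMap.charpoly (T.pullDeg D.F i)).comp
          (Polynomial.C ((Nat.card k₀ : K) ^ dim D.Xb.obj.left) * Polynomial.X) := by
  have hij : i + (2 * (dim D.Xb.obj.left : ℤ) - i) = 2 * (dim D.Xb.obj.left : ℤ) := by ring
  haveI := T.duality D.Xb i _ hij
  exact det_smul_reverse_charpoly (pairing K (T.gr D.Xb i) (T.gr D.Xb _) (T.tr D.Xb)) _ _ _
    (D.pairing_pull_F T hij)

end FrobData

end Groth.Agent.WeilH13
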