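import Groth.Agent.Lib.WeilH13.Inter
import Groth.Prelude.Def_W4c1zetahwZeta
import Mathlib.AlgebraicGeometry.Morphisms.Finite
import Mathlib.FieldTheory.PrimitiveElement
import Mathlib.FieldTheory.Finite.Basic
import Mathlib.FieldTheory.Perfect

/-!
Counting the fixed points of the iterated Frobenius by closed points of `X`.
-/

set_option backward.isDefEq.respectTransparency.types false
universe u v w

open AlgebraicGeometry CategoryTheory

namespace Groth.Agent.WeilH13

open WeilCoh Groth.Agent.VarDim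

section Residue

variable {k₀ : Type u} [Field k₀] {X : Scheme.{u}} (f : X ⟶ Spec (CommRingCat.of k₀))

theorem fromSpecResidueField_comp (x : X) :
    X.fromSpecResidueField x ≫ f = Spec.map (CommRingCat.ofHom (baseToRes f x)) := by
  rw [← Scheme.Hom.SpecMap_residueFieldMap_fromSpecResidueField,
    ← Scheme.Spec.map_residueFieldIso_inv_eq_fromSpecResidueField, ← Spec.map_comp, ← Spec.map_comp]
  congr 1
  rw [Scheme.Spec.algebraMap_residueFieldIso_inv]
  ext c
  exact (RingHom.congr_fun (baseToRes_comp (𝟙 (Spec (CommRingCat.of k₀))) f x) c).symm.trans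
    (by rw [Category.comp_id]; rfl)

theorem residueDegree_eq_finrank (x : X) :
    letI := resAlg f x
    EGA4loc.residueDegree f x = Module.finrank k₀ (X.residueField x) := by
  letI := resAlg f x
  letI := (f.residueFieldMap x).hom.toAlgebra
  have hbij : Function.Bijective (baseToRes (𝟙 (Spec (CommRingCat.of k₀))) (f x)) := by
    refine ⟨(baseToRes (𝟙 (Spec (CommRingCat.of k₀))) (f x)).injective, fun z ↦ ?_⟩
    obtain ⟨a, b, rfl⟩ := exists_evaluation_eq_div (isAffineOpen_top (Spec (CommRingCat.of k₀))) (f x) trivial z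
    obtain ⟨a, rfl⟩ := (Scheme.ΓSpecIso (CommRingCat.of k₀)).symm.commRingCatIsoToRingEquiv.surjective a
    obtain ⟨b, rfl⟩ := (Scheme.ΓSpecIso (CommRingCat.of k₀)).symm.commRingCatIsoToRingEquiv.surjective b
    refine ⟨a / b, ?_⟩
    rw [map_div₀]
    rfl
  refine (Algebra.finrank_eq_of_equiv_equiv (RingEquiv.ofBijective _ hbij) (RingEquiv.refl _) ?_).symm
  ext c
  refine (RingHom.congr_fun (baseToRes_comp (𝟙 (Spec (CommRingCat.of k₀))) f x) c).symm.trans ?_
  rw [Category.comp_id]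
  rfl

theorem finite_residueField_of_isClosed [LocallyOfFiniteType f] (x : X) (hx : IsClosed ({x} : Set X)) :
    letI := resAlg f x
    Module.Finite k₀ (X.residueField x) := by
  haveI : IsFinite (X.fromSpecResidueField x ≫ f) := by
    rw [isClosed_singleton_iff_isClosedImmersion] at hx
    rw [isFinite_iff_locallyOfFiniteType_of_jacobsonSpace]
    infer_instance
  rw [fromSpecResidueField_comp] at this
  exact (IsFinite.SpecMap_iff (CommRingCat.ofHom (baseToRes f x))).1 this

theorem isClosed_of_finite_residueField [LocallyOfFiniteType f] (x : X)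
    (hx : letI := resAlg f x; Module.Finite k₀ (X.residueField x)) : IsClosed ({x} : Set X) := by
  letI := resAlg f x
  haveI := hx
  rw [← sdim_eq_zero_iff_isClosed f]
  have := trdeg_residueField f x
  rw [trdeg_eq_zero] at this
  exact_mod_cast this.symm

theorem residueFieldCongr_evaluation {x y : X} (h : x = y) (U : X.Opens) (hx : x ∈ U) (a : Γ(X, U)) :
    (X.residueFieldCongr h).hom (X.evaluation U x hx a) = X.evaluation U y (h ▸ hx) a := by
  subst h; rfl

theorem forall_pow_eq_iff_dvd {L : Type u} [Field L] [Algebra k₀ L] [Finite k₀] [Module.Finite k₀ L]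
    (m : ℕ) : (∀ a : L, a ^ Nat.card k₀ ^ m = a) ↔ Module.finrank k₀ L ∣ m := by
  letI := Fintype.ofFinite k₀
  haveI : Finite L := Module.finite_of_finite k₀
  rw [← FiniteField.orderOf_frobeniusAlgHom k₀ L, orderOf_dvd_iff_pow_eq_one, DFunLike.ext_iff]
  simp only [AlgHom.coe_pow, FiniteField.coe_frobeniusAlgHom, pow_iterate, AlgHom.one_apply,
    Nat.card_eq_fintype_card]

theorem sigma_subtype_ext {α : Type v} {β : α → Type w} {P : ∀ x, β x → Prop}
    {a b : Σ x, {σ : β x // P x σ}} (h : (⟨a.1, a.2.1⟩ : Σ x, β x) = ⟨b.1, b.2.1⟩) : a = b := by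
  obtain ⟨x, σ, hσ⟩ := a
  obtain ⟨y, τ, hτ⟩ := b
  cases h
  rfl

end Residue

namespace FrobData

variable {k₀ k : Type u} [Field k₀] [Field k] [Algebra k₀ k] (D : FrobData k₀ k)

local notation "qn" m:max => Nat.card k₀ ^ m

theorem fromSpecResidueField_FXm (m : ℕ) (x : D.X) :
    ∃ g : D.X.residueField x ⟶ D.X.residueField x, (∀ a, g a = a ^ qn m) ∧
      D.X.fromSpecResidueField x ≫ D.FXm m = Spec.map g ≫ D.X.fromSpecResidueField x := by
  have hx : D.FXm m x = x := D.FXm_apply m x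
  refine ⟨(D.X.residueFieldCongr hx).inv ≫ (D.FXm m).residueFieldMap x, ?_, ?_⟩
  · obtain ⟨U, hU, hxU, -⟩ := exists_isAffineOpen_mem_and_subset (U := (⊤ : D.X.Opens)) (x := x) trivial
    have h : ∀ s, ((D.X.residueFieldCongr hx).inv ≫ (D.FXm m).residueFieldMap x).hom
        (D.X.evaluation U x hxU s) = (D.X.evaluation U x hxU s) ^ qn m := by
      intro s
      rw [CommRingCat.hom_comp, RingHom.comp_apply, Scheme.residueFieldCongr_inv]
      refine (congrArg ((D.FXm m).residueFieldMap x).hom (residueFieldCongr_evaluation hx.symm U hxU s)).trans ?_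
      refine (residueFieldMap_evaluation (D.FXm m) (D.FXm_le m U) x hxU s).trans ?_
      rw [D.FXm_appLE, map_pow]
    intro a
    obtain ⟨s, t, rfl⟩ := exists_evaluation_eq_div hU x hxU a
    rw [map_div₀, h, h, div_pow]
  · rw [Spec.map_comp, Category.assoc, Scheme.residueFieldCongr_inv,
      ← Scheme.Hom.SpecMap_residueFieldMap_fromSpecResidueField, Scheme.residueFieldCongr_fromSpecResidueField]

/-- Fixed closed points. -/
def FixCl (m : ℕ) : Set D.Xb.obj.left := {z | IsClosed ({z} : Set D.Xb.obj.left) ∧ sm (D.Fm m) z = z}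

/-- Points of `X` with values in `k` fixed by the iterated Frobenius. -/
def FixK (m : ℕ) : Type u :=
  {t : Spec (CommRingCat.of k) ⟶ D.X //
    t ≫ D.f = Spec.map (CommRingCat.ofHom (algebraMap k₀ k)) ∧ t ≫ D.FXm m = t}

/-- Pairs of a point and an embedding of its residue field fixed by Frobenius. -/
abbrev FixPair (m : ℕ) : Type u :=
  Σ x : D.X, {σ : D.X.residueField x ⟶ CommRingCat.of k //
    CommRingCat.ofHom (baseToRes D.f x) ≫ σ = CommRingCat.ofHom (algebraMap k₀ k) ∧
      ∀ a, σ a ^ qn m = σ a}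

variable [IsAlgClosed k]

/-- A fixed closed point gives a fixed `k`-point of `X`. -/
noncomputable def fixClEquiv (m : ℕ) : D.FixCl m ≃ D.FixK m where
  toFun z := ⟨pointOfClosedPoint D.Xb.obj.hom z.1 z.2.1 ≫ D.π, by
    constructor
    · rw [Category.assoc, D.isPb.w, pointOfClosedPoint_comp_assoc]
    · rw [Category.assoc, ← D.comm_iter, ← Category.assoc]
      congr 1
      refine ext_of_apply_closedPoint_eq D.Xb.obj.hom ?_ (pointOfClosedPoint_comp _ _ _) ?_
      · rw [Category.assoc, Over.w, pointOfClosedPoint_comp]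
      · change sm (D.Fm m) (pointOfClosedPoint D.Xb.obj.hom z.1 z.2.1 _) = _
        rw [pointOfClosedPoint_apply, z.2.2]⟩
  invFun t := by
    let s := D.isPb.lift t.1 (𝟙 _) (by rw [Category.id_comp, t.2.1])
    refine ⟨s (IsLocalRing.closedPoint k), ?_, ?_⟩
    · exact (pointEquivClosedPoint D.Xb.obj.hom ⟨s, IsPullback.lift_snd _ _ _ _⟩).2
    · have h : s ≫ sm (D.Fm m) = s := by
        apply D.isPb.hom_ext
        · rw [Category.assoc, D.comm_iter, IsPullback.lift_fst_assoc, IsPullback.lift_fst, t.2.2]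
        · rw [Category.assoc, Over.w, IsPullback.lift_snd]
      exact ConcreteCategory.congr_hom (congrArg (fun φ : Spec (CommRingCat.of k) ⟶ _ ↦ φ.base) h)
        (IsLocalRing.closedPoint k)
  left_inv z := by
    apply Subtype.ext
    have h : D.isPb.lift (pointOfClosedPoint D.Xb.obj.hom z.1 z.2.1 ≫ D.π) (𝟙 _)
        (by rw [Category.id_comp, Category.assoc, D.isPb.w, pointOfClosedPoint_comp_assoc]) =
          pointOfClosedPoint D.Xb.obj.hom z.1 z.2.1 := by
      apply D.isPb.hom_ext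
      · rw [IsPullback.lift_fst]
      · rw [IsPullback.lift_snd, pointOfClosedPoint_comp]
    exact (congrArg (fun φ : Spec (CommRingCat.of k) ⟶ _ ↦ φ (IsLocalRing.closedPoint k)) h).trans
      (pointOfClosedPoint_apply _ _ _ _)
  right_inv t := by
    apply Subtype.ext
    have h : D.isPb.lift t.1 (𝟙 _) (by rw [Category.id_comp, t.2.1]) ≫ D.π = t.1 := IsPullback.lift_fst _ _ _ _
    refine Eq.trans ?_ h
    change pointOfClosedPoint D.Xb.obj.hom _ _ ≫ D.π = _
    congr 1
    exact ext_of_apply_closedPoint_eq D.Xb.obj.hom (pointOfClosedPoint_comp _ _ _)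
      (IsPullback.lift_snd _ _ _ _) (pointOfClosedPoint_apply _ _ _ _)

omit [IsAlgClosed k] in
theorem fixK_iff (m : ℕ) (x : D.X) (σ : D.X.residueField x ⟶ CommRingCat.of k) :
    ((Spec.map σ ≫ D.X.fromSpecResidueField x) ≫ D.f = Spec.map (CommRingCat.ofHom (algebraMap k₀ k)) ∧
      (Spec.map σ ≫ D.X.fromSpecResidueField x) ≫ D.FXm m = Spec.map σ ≫ D.X.fromSpecResidueField x) ↔
    (CommRingCat.ofHom (baseToRes D.f x) ≫ σ = CommRingCat.ofHom (algebraMap k₀ k) ∧
      ∀ a, σ a ^ qn m = σ a) := by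
  obtain ⟨g, hg, hgc⟩ := D.fromSpecResidueField_FXm m x
  rw [Category.assoc, Category.assoc, fromSpecResidueField_comp, hgc, ← Spec.map_comp, ← Category.assoc,
    ← Spec.map_comp, cancel_mono, Spec.map_inj, Spec.map_inj]
  refine and_congr_right fun _ ↦ ⟨fun h a ↦ ?_, fun h ↦ ?_⟩
  · have h1 := ConcreteCategory.congr_hom h a
    rw [ConcreteCategory.comp_apply, hg, map_pow] at h1
    exact h1
  · ext a
    change σ (g a) = σ a
    rw [hg, map_pow, h]

/-- Fixed `k`-points as pairs. -/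
noncomputable def fixKEquiv (m : ℕ) : D.FixK m ≃ D.FixPair m where
  toFun t := ⟨(Scheme.SpecToEquivOfField k D.X t.1).1, (Scheme.SpecToEquivOfField k D.X t.1).2,
    (D.fixK_iff m _ _).1 (by
      rw [show Spec.map ((Scheme.SpecToEquivOfField k D.X t.1).2) ≫
        D.X.fromSpecResidueField (Scheme.SpecToEquivOfField k D.X t.1).1 = t.1 from
          (Scheme.SpecToEquivOfField k D.X).symm_apply_apply t.1]
      exact t.2)⟩
  invFun p := ⟨Spec.map p.2.1 ≫ D.X.fromSpecResidueField p.1, (D.fixK_iff m p.1 p.2.1).2 p.2.2⟩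
  left_inv t := Subtype.ext ((Scheme.SpecToEquivOfField k D.X).symm_apply_apply t.1)
  right_inv p := by
    obtain ⟨x, σ, hσ⟩ := p
    have h := (Scheme.SpecToEquivOfField k D.X).apply_symm_apply ⟨x, σ⟩
    exact sigma_subtype_ext (P := fun (x : D.X) (σ : D.X.residueField x ⟶ CommRingCat.of k) ↦
      CommRingCat.ofHom (baseToRes D.f x) ≫ σ = CommRingCat.ofHom (algebraMap k₀ k) ∧
        ∀ a, σ a ^ qn m = σ a) (a := ⟨_, _, _⟩) (b := ⟨x, σ, hσ⟩) h

variable [Finite k₀] [LocallyOfFiniteType D.f]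

omit [IsAlgClosed k] in
theorem finite_of_fixPair (m : ℕ) (hm : 0 < m) (x : D.X) (σ : D.X.residueField x ⟶ CommRingCat.of k)
    (h : ∀ a, σ a ^ qn m = σ a) : Finite (D.X.residueField x) := by
  have hf : Set.Finite {c : k | c ^ qn m = c} := by
    have hne := FiniteField.X_pow_card_sub_X_ne_zero k (Nat.one_lt_pow hm.ne' (Finite.one_lt_card (α := k₀)))
    refine (Polynomial.finite_setOf_isRoot hne).subset fun c hc ↦ ?_
    simp only [Set.mem_setOf_eq] at hc
    simp [Polynomial.IsRoot, hc]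
  haveI := hf.to_subtype
  exact Finite.of_injective (fun a ↦ (⟨σ a, h a⟩ : {c : k | c ^ qn m = c}))
    fun a b hab ↦ σ.hom.injective (congrArg Subtype.val hab)

theorem card_fibre (m : ℕ) (hm : 0 < m) (x : D.X) :
    Nat.card {σ : D.X.residueField x ⟶ CommRingCat.of k //
      CommRingCat.ofHom (baseToRes D.f x) ≫ σ = CommRingCat.ofHom (algebraMap k₀ k) ∧
        ∀ a, σ a ^ qn m = σ a} =
      {x : D.X | IsClosed ({x} : Set D.X) ∧ EGA4loc.residueDegree D.f x ∣ m}.indicator
        (EGA4loc.residueDegree D.f) x := by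
  classical
  letI := resAlg D.f x
  by_cases h : IsClosed ({x} : Set D.X) ∧ Module.finrank k₀ (D.X.residueField x) ∣ m
  · rw [Set.indicator_of_mem (by simpa [residueDegree_eq_finrank D.f x] using h), residueDegree_eq_finrank D.f x]
    haveI := finite_residueField_of_isClosed D.f x h.1
    haveI : Finite (D.X.residueField x) := Module.finite_of_finite k₀
    rw [← AlgHom.card k₀ (D.X.residueField x) k, ← Nat.card_eq_fintype_card]
    refine Nat.card_congr
      { toFun := fun σ ↦ AlgHom.mk σ.1.hom fun c ↦ ConcreteCategory.congr_hom σ.2.1 c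
        invFun := fun τ ↦ ⟨CommRingCat.ofHom τ.toRingHom, by
          ext c; exact τ.commutes c, fun a ↦ by
          change τ a ^ qn m = τ a
          rw [← map_pow, (forall_pow_eq_iff_dvd m).2 h.2 a]⟩
        left_inv := fun σ ↦ rfl
        right_inv := fun τ ↦ rfl }
  · rw [Set.indicator_of_notMem (by simpa [residueDegree_eq_finrank D.f x] using h)]
    rw [Nat.card_eq_zero]
    refine Or.inl ⟨fun σ ↦ h ?_⟩
    haveI := D.finite_of_fixPair m hm x σ.1 σ.2.2
    haveI : Module.Finite k₀ (D.X.residueField x) := Module.Finite.of_finite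
    refine ⟨isClosed_of_finite_residueField D.f x inferInstance, (forall_pow_eq_iff_dvd m).1 fun a ↦ ?_⟩
    apply σ.1.hom.injective
    rw [map_pow]
    exact σ.2.2 a

theorem card_fixPair (m : ℕ) (hm : 0 < m) [Finite (D.FixPair m)] :
    Nat.card (D.FixPair m) = Zeta.nPts D.f m := by
  classical
  set S : Set D.X := {x : D.X | IsClosed ({x} : Set D.X) ∧ EGA4loc.residueDegree D.f x ∣ m}
  have hpos : ∀ x ∈ S, 0 < EGA4loc.residueDegree D.f x := fun x hx ↦
    Nat.pos_of_ne_zero fun h0 ↦ hm.ne' (zero_dvd_iff.1 (h0 ▸ hx.2))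
  haveI : Finite S := by
    choose σ hσ using fun x : S ↦ show Nonempty {σ : D.X.residueField x.1 ⟶ CommRingCat.of k //
        CommRingCat.ofHom (baseToRes D.f x.1) ≫ σ = CommRingCat.ofHom (algebraMap k₀ k) ∧
          ∀ a, σ a ^ qn m = σ a} ∧ True by
      refine ⟨(Nat.card_pos_iff.1 ?_).1, trivial⟩
      rw [D.card_fibre m hm, Set.indicator_of_mem x.2]
      exact hpos _ x.2
    exact Finite.of_injective (fun x : S ↦ (⟨x.1, σ x |> (·.some)⟩ : D.FixPair m))
      fun a b hab ↦ Subtype.ext (congrArg Sigma.fst hab)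
  let Sf : Finset D.X := (Set.toFinite S).toFinset
  let fib : D.X → Type u := fun x ↦ {σ : D.X.residueField x ⟶ CommRingCat.of k //
      CommRingCat.ofHom (baseToRes D.f x) ≫ σ = CommRingCat.ofHom (algebraMap k₀ k) ∧
        ∀ a, σ a ^ qn m = σ a}
  have hS : ∀ x, Nonempty (fib x) → x ∈ Sf := by
    intro x hne
    by_contra hx
    have h0 := D.card_fibre m hm x
    rw [Set.indicator_of_notMem (fun h ↦ hx ((Set.toFinite S).mem_toFinset.2 h)), Nat.card_eq_zero] at h0
    rcases h0 with h0 | h0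
    · exact h0.false hne.some
    · haveI : Finite (fib x) :=
        Finite.of_injective (fun σ ↦ (⟨x, σ⟩ : D.FixPair m)) fun a b hab ↦ eq_of_heq (Sigma.mk.inj hab).2
      exact not_finite (fib x)
  haveI : ∀ x : Sf, Finite (fib x.1) := fun x ↦
    Finite.of_injective (fun σ ↦ (⟨x.1, σ⟩ : D.FixPair m)) fun a b hab ↦ eq_of_heq (Sigma.mk.inj hab).2
  let e : D.FixPair m ≃ Σ x : Sf, fib x.1 :=
    { toFun := fun p ↦ ⟨⟨p.1, hS p.1 ⟨p.2⟩⟩, p.2⟩
      invFun := fun p ↦ ⟨p.1.1, p.2⟩
      left_inv := fun p ↦ rfl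
      right_inv := fun p ↦ rfl }
  rw [Nat.card_congr e, Nat.card_sigma, Finset.sum_coe_sort Sf (fun x ↦ Nat.card (fib x))]
  have hc : ∀ x ∈ Sf, Nat.card (fib x) = EGA4loc.residueDegree D.f x := fun x hx ↦ by
    rw [D.card_fibre m hm, Set.indicator_of_mem (((Set.toFinite S).mem_toFinset.1 hx : x ∈ S))]
  rw [Finset.sum_congr rfl hc, Zeta.nPts,
    ← Finset.sum_fiberwise_of_maps_to (g := EGA4loc.residueDegree D.f) (t := m.divisors)
      fun x hx ↦ Nat.mem_divisors.2 ⟨((Set.toFinite S).mem_toFinset.1 hx).2, hm.ne'⟩]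
  refine Finset.sum_congr rfl fun e he ↦ ?_
  rw [Finset.sum_congr rfl fun x hx ↦ (Finset.mem_filter.1 hx).2, Finset.sum_const, smul_eq_mul, mul_comm]
  congr 1
  rw [Zeta.degCount, ← Nat.card_eq_finsetCard]
  refine Nat.card_congr (Equiv.subtypeEquivRight fun x ↦ ?_)
  simp only [Finset.mem_filter, Sf, Set.Finite.mem_toFinset, S, Set.mem_setOf_eq]
  exact ⟨fun h ↦ ⟨h.1.1, h.2⟩, fun h ↦ ⟨⟨h.1, h.2 ▸ (Nat.mem_divisors.1 he).1⟩, h.2⟩⟩

theorem card_fixSet {P : Var k} {p q : P ⟶ D.Xb} {j d : D.Xb ⟶ P} {m : ℕ} (hm : 0 < m)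
    (hP : IsProd p q) (hjp : j ≫ p = 𝟙 D.Xb) (hjq : j ≫ q = D.Fm m) (hdp : d ≫ p = 𝟙 D.Xb)
    (hdq : d ≫ q = 𝟙 D.Xb) : Nat.card (fixSet j d) = Zeta.nPts D.f m := by
  have hset : fixSet j d = D.FixCl m := Set.ext fun z ↦
    ⟨isClosed_and_fixed_of_mem m hjp hjq hdp hdq hm,
      fun h ↦ mem_fixSet_of_isClosed m hjp hjq hdp hdq hP h.1 h.2⟩
  haveI : Finite (D.FixCl m) := hset ▸ (finite_fixSet m hjp hjq hdp hdq hm).to_subtype
  haveI : Finite (D.FixPair m) := Finite.of_equiv _ ((D.fixClEquiv m).trans (D.fixKEquiv m))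
  rw [hset, Nat.card_congr ((D.fixClEquiv m).trans (D.fixKEquiv m)), D.card_fixPair m hm]

end FrobData

end Groth.Agent.WeilH13
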