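import Groth.Agent.Lib.WeilH13.Var

/-!
Classes of the fundamental cycle, of closed points, of graphs.
-/

set_option backward.isDefEq.respectTransparency.types false
universe u v w

open AlgebraicGeometry CategoryTheory

namespace Groth.Agent.WeilH13

open WeilCoh

variable {k : Type u} [Field k] {K : Type v} [Field K] (T : TheoryOn.{u, v, w} k (IsVar k) K)

theorem isCompPt_preimage_iff (X : Var k) (ξ : (point k).obj.left) (w : X.obj.left) :
    IsCompPt ((sm (toPoint X)) ⁻¹' closure ({ξ} : Set (point k).obj.left)) w ↔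
      w = genericPoint X.obj.left := by
  have huniv : (sm (toPoint X)) ⁻¹' closure ({ξ} : Set (point k).obj.left) = Set.univ := by
    refine Set.eq_univ_of_forall fun z ↦ ?_
    haveI : Subsingleton (point k).obj.left := inferInstanceAs (Subsingleton (PrimeSpectrum k))
    exact subset_closure (Subsingleton.elim _ ξ)
  rw [IsCompPt, huniv]
  constructor
  · rintro ⟨-, h⟩
    exact (h _ trivial (genericPoint_specializes w)).symm
  · rintro rfl
    exact ⟨trivial, fun w' _ h ↦ (h.antisymm (genericPoint_specializes w')).eq⟩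

theorem isField_stalk_genericPoint (X : Var k) :
    IsField (X.obj.left.presheaf.stalk (genericPoint X.obj.left)) := by
  haveI : IsIntegral X.obj.left := isIntegral_of_irreducibleSpace_of_isReduced _
  exact Field.toIsField (X.obj.left.functionField)

theorem preimMult_toPoint (X : Var k) (ξ : (point k).obj.left)
    (h : sm (toPoint X) (genericPoint X.obj.left) ∈ closure ({ξ} : Set (point k).obj.left)) :
    preimMult (sm (toPoint X)) ξ (genericPoint X.obj.left) h = 1 := by
  rw [preimMult]
  set A := X.obj.left.presheaf.stalk (genericPoint X.obj.left)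
  set J := Ideal.map ((sm (toPoint X)).stalkMap (genericPoint X.obj.left)).hom
      (RingHom.ker (Cyc.specMap (sm (toPoint X) (genericPoint X.obj.left)) ξ
        (specializes_iff_mem_closure.mpr h))) with hJ
  have hmax : IsLocalRing.maximalIdeal A = ⊥ :=
    IsLocalRing.isField_iff_maximalIdeal_eq.1 (isField_stalk_genericPoint X)
  have hle : J ≤ IsLocalRing.maximalIdeal A := by
    rw [hJ]
    refine le_trans (Ideal.map_mono (IsLocalRing.le_maximalIdeal (RingHom.ker_ne_top _))) ?_
    exact ((IsLocalRing.local_hom_TFAE ((sm (toPoint X)).stalkMap (genericPoint X.obj.left)).hom).out 0 2).1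
      ((sm (toPoint X)).toLRSHom.prop (genericPoint X.obj.left))
  haveI : IsSimpleModule A (A ⧸ J) := by
    rw [isSimpleModule_iff_isCoatom, show J = IsLocalRing.maximalIdeal A from
      le_antisymm hle (hmax.le.trans bot_le)]
    exact (IsLocalRing.maximalIdeal.isMaximal A).out
  rw [Module.length_eq_one]
  rfl

theorem cl_genericPoint (X : Var k) : T.cl X (genericPoint X.obj.left) = 1 := by
  obtain ⟨ξ⟩ : Nonempty (point k).obj.left := inferInstanceAs (Nonempty (PrimeSpectrum k))
  have hpdim : pdim (point k).obj.left ξ = 0 :=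
    Nat.le_zero.1 ((pdim_le_dim (point k) ξ).trans dim_point.le)
  have key := T.cl_pull (toPoint X) ξ (fun w hw ↦ by
      rw [(isCompPt_preimage_iff X ξ w).1 hw, pdim_genericPoint, hpdim, dim_point]; simp)
    (.inr fun w hw ↦ by
      obtain rfl := (isCompPt_preimage_iff X ξ w).1 hw
      exact preimMult_toPoint X ξ hw.1)
  rw [(T.point (point k) dim_point).1 ξ, map_one] at key
  let η : {w : X.obj.left //
      IsCompPt ((sm (toPoint X)) ⁻¹' closure ({ξ} : Set (point k).obj.left)) w} :=
    ⟨genericPoint X.obj.left, (isCompPt_preimage_iff X ξ _).2 rfl⟩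
  rw [finsum_eq_single _ η fun w hw ↦ absurd (Subtype.ext ((isCompPt_preimage_iff X ξ w.1).1 w.2)) hw] at key
  rw [preimMult_toPoint, Nat.cast_one, one_smul] at key
  exact key.symm

theorem tr_cl_closedPoint [IsAlgClosed k] (X : Var k) (x : X.obj.left)
    (hx : IsClosed ({x} : Set X.obj.left)) : T.tr X (T.cl X x) = 1 := by
  have h0 : pdim X.obj.left x = 0 := (pdim_eq_zero_iff X x).2 hx
  have h := T.cl_push (toPoint X) x 1 (by rw [h0]; exact one_mem T _)
  rw [map_one, mul_one, mul_one, (T.point (point k) dim_point).1, (T.point (point k) dim_point).2,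
    mul_one, show (sm (toPoint X)).residueDegree x = 1 from residueDegree_toPoint X x hx,
    Nat.cast_one] at h
  exact h

theorem tr_pull (X Y : Var k) (f : X ⟶ Y)
    (hdom : sm f (genericPoint X.obj.left) = genericPoint Y.obj.left)
    (hdim : dim X.obj.left = dim Y.obj.left) {a : T.H Y}
    (ha : a ∈ T.gr Y (2 * (dim Y.obj.left : ℤ))) :
    T.tr X (T.pull f a) = ((sm f).residueDegree (genericPoint X.obj.left) : K) * T.tr Y a := by
  have h := T.cl_push f (genericPoint X.obj.left) a (by rw [pdim_genericPoint, hdim]; exact ha)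
  rw [hdom, cl_genericPoint, cl_genericPoint, one_mul, one_mul] at h
  exact h

theorem push_cl {X Y : Var k} (f : X ⟶ Y) (ξ : X.obj.left) :
    (T.push f (2 * (codim X.obj.left ξ : ℤ)) ⟨T.cl X ξ, T.cl_mem X ξ⟩ : T.H Y) =
      ((sm f).residueDegree ξ : K) • T.cl Y (sm f ξ) := by
  refine push_eq T f _ _ ?_ fun b hb ↦ ?_
  · by_cases h : (sm f).residueDegree ξ = 0
    · rw [h, Nat.cast_zero, zero_smul]; exact Submodule.zero_mem _
    · refine Submodule.smul_mem _ _ (eq_of_mem T ?_ (T.cl_mem Y _))
      rw [codim_cast, codim_cast, pdim_eq_of_residueDegree_ne_zero f ξ h]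
      ring
  · rw [smul_mul_assoc, map_smul, smul_eq_mul]
    exact (T.cl_push f ξ b (eq_of_mem T (by rw [codim_cast]; ring) hb)).symm

theorem residueDegree_eq_one_of_surjectiveOnStalks {X Y : Scheme.{u}} (g : X ⟶ Y)
    [SurjectiveOnStalks g] (z : X) : g.residueDegree z = 1 := by
  have hsurj : Function.Surjective (g.residueFieldMap z) := by
    intro b
    obtain ⟨b, rfl⟩ := Scheme.residue_surjective X z b
    obtain ⟨a, rfl⟩ := g.stalkMap_surjective z b
    exact ⟨Y.residue _ a, ConcreteCategory.congr_hom (Scheme.residue_residueFieldMap g z) a⟩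
  letI := (g.residueFieldMap z).hom.toAlgebra
  exact (LinearEquiv.ofBijective (Algebra.linearMap _ (X.residueField z))
    ⟨(g.residueFieldMap z).hom.injective, hsurj⟩).finrank_eq.symm.trans (Module.finrank_self _)

variable {X Y Q : Var k} {p : Q ⟶ X} {j : X ⟶ Q}

theorem isClosedImmersion_section (hj : j ≫ p = 𝟙 X) : IsClosedImmersion (sm j) := by
  haveI : IsSeparated Q.obj.hom := by
    obtain ⟨-, ⟨n, i, hi, hi'⟩, -⟩ := Q.property
    haveI : IsSeparated (CohB1.ProjSpace.toSpec n (ULift.{u} ℤ)) := by
      unfold CohB1.ProjSpace.toSpec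
      exact MorphismProperty.comp_mem _ _ _ (Proj.isSeparated _) inferInstance
    haveI : IsSeparated (CohB1.ProjSpaceOver.toBase n (Spec (CommRingCat.of k))) := by
      unfold CohB1.ProjSpaceOver.toBase; exact MorphismProperty.pullback_snd _ _ inferInstance
    rw [← hi']
    infer_instance
  haveI : IsSeparated (sm p) := by
    haveI : IsSeparated (sm p ≫ X.obj.hom) := by rw [Over.w p.hom]; infer_instance
    exact IsSeparated.of_comp (sm p) X.obj.hom
  haveI : IsClosedImmersion (sm j ≫ sm p) := by
    have : sm j ≫ sm p = 𝟙 _ := congrArg (fun φ : X ⟶ X ↦ sm φ) hj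
    rw [this]; infer_instance
  exact IsClosedImmersion.of_comp (sm j) (sm p)

theorem pdim_section (hj : j ≫ p = 𝟙 X) (x : X.obj.left) :
    pdim Q.obj.left (sm j x) = pdim X.obj.left x := by
  haveI := isClosedImmersion_section hj
  refine (pdim_eq_of_residueDegree_ne_zero j x ?_)
  rw [residueDegree_eq_one_of_surjectiveOnStalks]
  exact one_ne_zero

theorem tr_cl_section_mul (hj : j ≫ p = 𝟙 X) (ξ : X.obj.left) (c : T.H Q) :
    T.tr Q (T.cl Q (sm j ξ) * c) = T.tr X (T.cl X ξ * T.pull j c) := by
  haveI := isClosedImmersion_section hj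
  induction c using induction_gr T with
  | hmem i c hc =>
    by_cases hi : i = 2 * (pdim X.obj.left ξ : ℤ)
    · rw [T.cl_push j ξ c (eq_of_mem T hi hc), residueDegree_eq_one_of_surjectiveOnStalks,
        Nat.cast_one, one_mul]
    · rw [tr_mul_eq_zero T (T.cl_mem Q _) hc ?_, tr_mul_eq_zero T (T.cl_mem X ξ) (T.pull_mem j i c hc) ?_]
      · rw [codim_cast]; omega
      · rw [codim_cast, pdim_section hj]; omega
  | hadd b₁ b₂ h₁ h₂ => simp only [map_add, mul_add, h₁, h₂]

theorem tr_graph_mul (hj : j ≫ p = 𝟙 X) (c : T.H Q) :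
    T.tr Q (T.cl Q (sm j (genericPoint X.obj.left)) * c) = T.tr X (T.pull j c) := by
  rw [tr_cl_section_mul T hj, cl_genericPoint, one_mul]

theorem cl_graph_mem (hj : j ≫ p = 𝟙 X) :
    T.cl Q (sm j (genericPoint X.obj.left)) ∈
      T.gr Q (2 * ((dim Q.obj.left : ℤ) - dim X.obj.left)) :=
  eq_of_mem T (by rw [codim_cast, pdim_section hj, pdim_genericPoint]) (T.cl_mem Q _)

end Groth.Agent.WeilH13
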