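import Groth.Prelude.Def_WeilCoh
import Mathlib.LinearAlgebra.Trace
import Mathlib.LinearAlgebra.Contraction
import Mathlib.Algebra.DirectSum.Internal

/-!
Formal consequences of the conditions of a Weil cohomology theory: extensionality by Poincaré
duality, push-forward, Künneth induction, trace on products.
-/

universe u v w

open AlgebraicGeometry CategoryTheory TensorProduct

namespace Groth.Agent.WeilH13

open WeilCoh

variable {k : Type u} [Field k] {P : ObjectProperty (Over (Spec (CommRingCat.of k)))}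
variable {K : Type v} [Field K] (T : TheoryOn.{u, v, w} k P K)


theorem induction_gr {X : P.FullSubcategory} {motive : T.H X → Prop} (hmem : ∀ i, ∀ a ∈ T.gr X i, motive a)
    (hadd : ∀ a b, motive a → motive b → motive (a + b)) (a : T.H X) : motive a := by
  have h : a ∈ ⨆ i, T.gr X i := by
    rw [(T.decomp X).submodule_iSup_eq_top]; exact Submodule.mem_top
  exact Submodule.iSup_induction _ (motive := motive) h hmem (hmem 0 _ (Submodule.zero_mem _)) hadd

theorem eq_zero_of_degree {X : P.FullSubcategory} {i : ℤ} {a : T.H X} (ha : a ∈ T.gr X i)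
    (h : i < 0 ∨ 2 * (dim X.obj.left : ℤ) < i) : a = 0 := by
  rw [T.vanish X i h] at ha
  exact (Submodule.mem_bot K).1 ha

theorem mul_mem {X : P.FullSubcategory} {i j : ℤ} {a b : T.H X} (ha : a ∈ T.gr X i) (hb : b ∈ T.gr X j) :
    a * b ∈ T.gr X (i + j) :=
  SetLike.mul_mem_graded ha hb

theorem one_mem (X : P.FullSubcategory) : (1 : T.H X) ∈ T.gr X 0 :=
  SetLike.one_mem_graded (T.gr X)

theorem tr_mul_eq_zero {X : P.FullSubcategory} {i j : ℤ} {a b : T.H X} (ha : a ∈ T.gr X i)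
    (hb : b ∈ T.gr X j) (h : i + j ≠ 2 * (dim X.obj.left : ℤ)) : T.tr X (a * b) = 0 :=
  T.tr_vanish X _ _ (mul_mem T ha hb) h

theorem eq_of_mem {X : P.FullSubcategory} {i j : ℤ} (h : i = j) {a : T.H X} (ha : a ∈ T.gr X i) :
    a ∈ T.gr X j := h ▸ ha

/-- Extensionality by Poincaré duality. -/
theorem ext_of_tr {X : P.FullSubcategory} {i j : ℤ} (hij : i + j = 2 * (dim X.obj.left : ℤ)) {a b : T.H X}
    (ha : a ∈ T.gr X i) (hb : b ∈ T.gr X i)
    (h : ∀ c ∈ T.gr X j, T.tr X (a * c) = T.tr X (b * c)) : a = b := by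
  have hp := T.duality X i j hij
  have := hp.bijective_left.1 (a₁ := ⟨a, ha⟩) (a₂ := ⟨b, hb⟩) (LinearMap.ext fun c ↦ h c.1 c.2)
  exact congrArg Subtype.val this

/-- A form of `ext_of_tr` with an arbitrary test class. -/
theorem ext_of_tr' {X : P.FullSubcategory} {i : ℤ} {a b : T.H X}
    (ha : a ∈ T.gr X i) (hb : b ∈ T.gr X i)
    (h : ∀ c, T.tr X (a * c) = T.tr X (b * c)) : a = b :=
  ext_of_tr T (j := 2 * (dim X.obj.left : ℤ) - i) (by omega) ha hb fun c _ ↦ h c

theorem mul_comm_even {X : P.FullSubcategory} {c : ℤ} {a : T.H X} (ha : a ∈ T.gr X (2 * c))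
    (b : T.H X) : a * b = b * a := by
  induction b using induction_gr T with
  | hmem j b hb =>
    rw [T.gradedComm X _ _ a b ha hb, Int.natAbs_mul, mul_assoc, pow_mul]
    norm_num
  | hadd b₁ b₂ h₁ h₂ => rw [mul_add, add_mul, h₁, h₂]

theorem gradedComm_smul {X : P.FullSubcategory} {i j : ℤ} {a b : T.H X} (ha : a ∈ T.gr X i)
    (hb : b ∈ T.gr X j) : T.tr X (a * b) = (-1 : K) ^ (i.natAbs * j.natAbs) * T.tr X (b * a) := by
  rw [T.gradedComm X i j a b ha hb, map_smul, smul_eq_mul]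

theorem tr_push {X Y : P.FullSubcategory} (f : X ⟶ Y) (i : ℤ) (a : T.gr X i) (b : T.H Y) :
    T.tr Y ((T.push f i a : T.H Y) * b) = T.tr X ((a : T.H X) * T.pull f b) := by
  induction b using induction_gr T with
  | hmem j b hb =>
    by_cases hj : j = 2 * (dim X.obj.left : ℤ) - i
    · subst hj
      haveI := T.duality Y (i + 2 * (dim Y.obj.left : ℤ) - 2 * (dim X.obj.left : ℤ)) (2 * (dim X.obj.left : ℤ) - i) (by omega)
      exact LinearMap.congr_fun (LinearMap.apply_symm_toPerfPair_self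
        (pairing K (T.gr Y (i + 2 * (dim Y.obj.left : ℤ) - 2 * (dim X.obj.left : ℤ))) (T.gr Y (2 * (dim X.obj.left : ℤ) - i)) (T.tr Y))
        (T.pushFunctional f i a)) ⟨b, hb⟩
    · rw [tr_mul_eq_zero T (T.push f i a).2 hb (by omega),
        tr_mul_eq_zero T a.2 (T.pull_mem f j b hb) (by omega)]
  | hadd b₁ b₂ h₁ h₂ => simp only [map_add, mul_add, h₁, h₂]

/-- Characterization of push-forward. -/
theorem push_eq {X Y : P.FullSubcategory} (f : X ⟶ Y) (i : ℤ) (a : T.gr X i) {c : T.H Y}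
    (hc : c ∈ T.gr Y (i + 2 * (dim Y.obj.left : ℤ) - 2 * (dim X.obj.left : ℤ)))
    (h : ∀ b ∈ T.gr Y (2 * (dim X.obj.left : ℤ) - i), T.tr Y (c * b) = T.tr X ((a : T.H X) * T.pull f b)) :
    (T.push f i a : T.H Y) = c :=
  ext_of_tr T (j := 2 * (dim X.obj.left : ℤ) - i) (by omega) (T.push f i a).2 hc fun b hb ↦ by
    rw [tr_push, h b hb]

theorem exists_top (X : P.FullSubcategory) : ∃ a ∈ T.gr X (2 * (dim X.obj.left : ℤ)), T.tr X a = 1 := by
  obtain ⟨⟨a, ha⟩, h⟩ := (T.tr_bijective X).2 1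
  exact ⟨a, ha, h⟩

theorem nontrivial_H (X : P.FullSubcategory) : Nontrivial (T.H X) := by
  obtain ⟨a, -, h⟩ := exists_top T X
  exact ⟨⟨a, 0, fun h0 ↦ by simp [h0] at h⟩⟩

include T in
theorem dim_prod {X Y Q : P.FullSubcategory} {p : Q ⟶ X} {q : Q ⟶ Y} (hQ : IsProd p q) :
    (dim Q.obj.left : ℤ) = (dim X.obj.left : ℤ) + (dim Y.obj.left : ℤ) := by
  obtain ⟨a, ha, ha'⟩ := exists_top T X
  obtain ⟨b, hb, hb'⟩ := exists_top T Y
  by_contra hne
  have h1 := T.tr_prod p q hQ a b ha hb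
  rw [tr_mul_eq_zero T (T.pull_mem p _ a ha) (T.pull_mem q _ b hb) (by omega),
    ha', hb', one_mul] at h1
  exact zero_ne_one h1

theorem induction_prod {X Y Q : P.FullSubcategory} {p : Q ⟶ X} {q : Q ⟶ Y} (hQ : IsProd p q)
    {motive : T.H Q → Prop}
    (hmem : ∀ i j, ∀ a ∈ T.gr X i, ∀ b ∈ T.gr Y j, motive (T.pull p a * T.pull q b))
    (hadd : ∀ a b, motive a → motive b → motive (a + b)) (c : T.H Q) : motive c := by
  obtain ⟨t, rfl⟩ := (T.kunneth p q hQ).2 c
  induction t using TensorProduct.induction_on with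
  | zero => simpa using hmem 0 0 0 (Submodule.zero_mem _) 0 (Submodule.zero_mem _)
  | tmul a b =>
    change motive (T.pull p a * T.pull q b)
    induction a using induction_gr T with
    | hmem i a ha =>
      induction b using induction_gr T with
      | hmem j b hb => exact hmem i j a ha b hb
      | hadd b₁ b₂ h₁ h₂ => rw [map_add, mul_add]; exact hadd _ _ h₁ h₂
    | hadd a₁ a₂ h₁ h₂ => rw [map_add, add_mul]; exact hadd _ _ h₁ h₂
  | add s t hs ht => rw [map_add]; exact hadd _ _ hs ht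

theorem tr_prod' {X Y Q : P.FullSubcategory} {p : Q ⟶ X} {q : Q ⟶ Y} (hQ : IsProd p q)
    (a : T.H X) (b : T.H Y) : T.tr Q (T.pull p a * T.pull q b) = T.tr X a * T.tr Y b := by
  induction a using induction_gr T with
  | hmem i a ha =>
    induction b using induction_gr T with
    | hmem j b hb =>
      have hd := dim_prod T hQ
      by_cases hi : i = 2 * (dim X.obj.left : ℤ)
      · by_cases hj : j = 2 * (dim Y.obj.left : ℤ)
        · subst hi hj; exact T.tr_prod p q hQ a b ha hb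
        · rw [tr_mul_eq_zero T (T.pull_mem p i a ha) (T.pull_mem q j b hb)
              (by omega), T.tr_vanish Y j b hb hj, mul_zero]
      · rw [T.tr_vanish X i a ha hi, zero_mul]
        by_cases hij : i + j = 2 * (dim Q.obj.left : ℤ)
        · by_cases hlt : 2 * (dim X.obj.left : ℤ) < i
          · simp [eq_zero_of_degree T ha (.inr hlt)]
          · have : 2 * (dim Y.obj.left : ℤ) < j := by omega
            simp [eq_zero_of_degree T hb (.inr this)]
        · exact tr_mul_eq_zero T (T.pull_mem p i a ha) (T.pull_mem q j b hb) hij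
    | hadd b₁ b₂ h₁ h₂ => simp only [map_add, mul_add, h₁, h₂]
  | hadd a₁ a₂ h₁ h₂ => simp only [map_add, add_mul, h₁, h₂]

theorem pull_mul_pull_comm {X Y Q : P.FullSubcategory} (p : Q ⟶ X) (q : Q ⟶ Y) {i j : ℤ}
    {a : T.H X} {b : T.H Y} (ha : a ∈ T.gr X i) (hb : b ∈ T.gr Y j) :
    T.pull q b * T.pull p a =
      ((-1 : K) ^ (j.natAbs * i.natAbs)) • (T.pull p a * T.pull q b) :=
  T.gradedComm Q j i _ _ (T.pull_mem q j b hb) (T.pull_mem p i a ha)

/-- `tr ((p*a q*b)(p*a' q*b'))` -/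
theorem tr_prod_four {X Y Q : P.FullSubcategory} {p : Q ⟶ X} {q : Q ⟶ Y} (hQ : IsProd p q)
    {i j : ℤ} (a : T.H X) {b : T.H Y} {a' : T.H X} (b' : T.H Y) (hb : b ∈ T.gr Y j)
    (ha' : a' ∈ T.gr X i) :
    T.tr Q (T.pull p a * T.pull q b * (T.pull p a' * T.pull q b')) =
      (-1 : K) ^ (j.natAbs * i.natAbs) * (T.tr X (a * a') * T.tr Y (b * b')) := by
  rw [mul_assoc, ← mul_assoc (T.pull q b), pull_mul_pull_comm T p q ha' hb]
  simp only [smul_mul_assoc, mul_smul_comm, map_smul, smul_eq_mul]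
  rw [mul_assoc (T.pull p a'), ← map_mul (T.pull q), ← mul_assoc (T.pull p a), ← map_mul (T.pull p),
    tr_prod' T hQ]

end Groth.Agent.WeilH13
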