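import Groth.Agent.Lib.WeilH13.Graph

/-!
Correspondences: the action of classes on a product and the trace formula for their composites.
-/

set_option backward.isDefEq.respectTransparency.types false
universe u v w

open AlgebraicGeometry CategoryTheory

namespace Groth.Agent.WeilH13

open WeilCoh

variable {k : Type u} [Field k] {P₀ : ObjectProperty (Over (Spec (CommRingCat.of k)))}
variable {K : Type v} [Field K] (T : TheoryOn.{u, v, w} k P₀ K)

/-- Homogeneous classes on a product are sums of products of homogeneous classes. -/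
theorem mem_span_prod {X Y Q : P₀.FullSubcategory} {p : Q ⟶ X} {q : Q ⟶ Y} (hQ : IsProd p q) {n : ℤ}
    {φ : T.H Q} (hφ : φ ∈ T.gr Q n) :
    φ ∈ Submodule.span K {x | ∃ s : ℤ, ∃ a ∈ T.gr X s, ∃ b ∈ T.gr Y (n - s), x = T.pull p a * T.pull q b} := by
  let S : ℤ → Submodule K (T.H Q) := fun n ↦
    Submodule.span K {x | ∃ s : ℤ, ∃ a ∈ T.gr X s, ∃ b ∈ T.gr Y (n - s), x = T.pull p a * T.pull q b}
  have hle : ∀ n, S n ≤ T.gr Q n := fun n ↦ Submodule.span_le.2 (by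
    rintro x ⟨s, a, ha, b, hb, rfl⟩
    exact eq_of_mem T (by ring) (mul_mem T (T.pull_mem p _ _ ha) (T.pull_mem q _ _ hb)))
  have htop : ∀ c, c ∈ ⨆ m, S m := by
    intro c
    induction c using induction_prod T hQ with
    | hmem i j a ha b hb =>
      exact Submodule.mem_iSup_of_mem (i + j)
        (Submodule.subset_span ⟨i, a, ha, b, eq_of_mem T (by ring) hb, rfl⟩)
    | hadd a b ha hb => exact Submodule.add_mem _ ha hb
  have hsplit : φ ∈ S n ⊔ ⨆ (m) (_ : m ≠ n), S m := by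
    rw [← iSup_split_single]; exact htop φ
  obtain ⟨s, hs, t, ht, rfl⟩ := Submodule.mem_sup.1 hsplit
  have ht' : t ∈ T.gr Q n := by simpa using Submodule.sub_mem _ hφ (hle n hs)
  have : t = 0 := Submodule.disjoint_def.1 ((iSupIndep_def.1 (T.decomp Q).submodule_iSupIndep) n) t ht'
    (SetLike.le_def.1 (iSup₂_mono fun m _ ↦ hle m) ht)
  rw [this, add_zero]
  exact hs

/-- The action of a class of degree `n` on classes of degree `i`. -/
noncomputable def act {X Y Q : P₀.FullSubcategory} (p : Q ⟶ X) (q : Q ⟶ Y) (n i : ℤ) (φ : T.gr Q n) :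
    T.gr X i →ₗ[K] T.gr Y (i + n + 2 * (dim Y.obj.left : ℤ) - 2 * (dim Q.obj.left : ℤ)) :=
  (T.push q (i + n)) ∘ₗ ((LinearMap.mulRight K (φ : T.H Q)).restrict (p := T.gr Q i) (q := T.gr Q (i + n))
    (fun _ hx => SetLike.mul_mem_graded hx φ.2)) ∘ₗ (T.pullDeg p i)

theorem act_apply {X Y Q : P₀.FullSubcategory} (p : Q ⟶ X) (q : Q ⟶ Y) (n i : ℤ) (φ : T.gr Q n) (x : T.gr X i) :
    act T p q n i φ x = T.push q (i + n) ⟨T.pull p (x : T.H X) * φ, mul_mem T (T.pull_mem p i x x.2) φ.2⟩ := rfl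

theorem act_add {X Y Q : P₀.FullSubcategory} (p : Q ⟶ X) (q : Q ⟶ Y) (n i : ℤ) (φ ψ : T.gr Q n) :
    act T p q n i (φ + ψ) = act T p q n i φ + act T p q n i ψ := by
  refine LinearMap.ext fun x ↦ ?_
  rw [LinearMap.add_apply, act_apply, act_apply, act_apply, ← map_add]
  congr 1
  exact Subtype.ext (mul_add _ _ _)

theorem act_smul {X Y Q : P₀.FullSubcategory} (p : Q ⟶ X) (q : Q ⟶ Y) (n i : ℤ) (c : K) (φ : T.gr Q n) :
    act T p q n i (c • φ) = c • act T p q n i φ := by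
  refine LinearMap.ext fun x ↦ ?_
  rw [LinearMap.smul_apply, act_apply, act_apply, ← map_smul]
  congr 1
  exact Subtype.ext (mul_smul_comm _ _ _)

theorem tr_act_mul {X Y Q : P₀.FullSubcategory} (p : Q ⟶ X) (q : Q ⟶ Y) (n i : ℤ) (φ : T.gr Q n) (x : T.gr X i)
    (b : T.H Y) : T.tr Y ((act T p q n i φ x : T.H Y) * b) =
      T.tr Q (T.pull p (x : T.H X) * (φ : T.H Q) * T.pull q b) := by
  rw [act_apply, tr_push]

theorem act_prod {X Y Q : P₀.FullSubcategory} {p : Q ⟶ X} {q : Q ⟶ Y} (hQ : IsProd p q) {n i s : ℤ}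
    {a : T.H X} {b : T.H Y} (ha : a ∈ T.gr X s) (hb : b ∈ T.gr Y (n - s)) (φ : T.gr Q n)
    (hφ : (φ : T.H Q) = T.pull p a * T.pull q b) (x : T.gr X i) :
    (act T p q n i φ x : T.H Y) = T.tr X ((x : T.H X) * a) • b := by
  have hd := dim_prod T hQ
  rw [act_apply]
  refine push_eq T q _ _ ?_ fun c _ ↦ ?_
  · by_cases h : i + s = 2 * (dim X.obj.left : ℤ)
    · exact Submodule.smul_mem _ _ (eq_of_mem T (by omega) hb)
    · rw [tr_mul_eq_zero T x.2 ha h, zero_smul]; exact Submodule.zero_mem _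
  · change T.tr Y ((T.tr X ((x : T.H X) * a) • b) * c) = T.tr Q (T.pull p (x : T.H X) * (φ : T.H Q) * T.pull q c)
    rw [hφ, ← mul_assoc (T.pull p (x : T.H X)), ← map_mul (T.pull p), mul_assoc, ← map_mul (T.pull q),
      tr_prod' T hQ, smul_mul_assoc, map_smul, smul_eq_mul]

theorem act_injective {X Y Q : P₀.FullSubcategory} {p : Q ⟶ X} {q : Q ⟶ Y} (hQ : IsProd p q) {n : ℤ}
    (φ : T.gr Q n) (h : ∀ i, act T p q n i φ = 0) : φ = 0 := by
  refine Subtype.ext (ext_of_tr' T φ.2 (Submodule.zero_mem _) fun c ↦ ?_)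
  induction c using induction_prod T hQ with
  | hadd a b ha hb => simp only [mul_add, map_add, ha, hb]
  | hmem i j a ha b hb =>
    have h1 := tr_act_mul T p q n i φ ⟨a, ha⟩ b
    rw [h i, LinearMap.zero_apply, ZeroMemClass.coe_zero, zero_mul, map_zero] at h1
    rw [ZeroMemClass.coe_zero, zero_mul, map_zero, ← mul_assoc,
      T.gradedComm Q n i _ _ φ.2 (T.pull_mem p i a ha), smul_mul_assoc, map_smul, ← h1, smul_zero]

/-- The endomorphism of `H^i(X)` given by the composite of two correspondences. -/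
noncomputable def compEnd {X Y Q Q' : P₀.FullSubcategory} (p : Q ⟶ X) (q : Q ⟶ Y) (p' : Q' ⟶ Y) (q' : Q' ⟶ X)
    (n n' i : ℤ)
    (e : i + n + 2 * (dim Y.obj.left : ℤ) - 2 * (dim Q.obj.left : ℤ) + n' + 2 * (dim X.obj.left : ℤ) -
      2 * (dim Q'.obj.left : ℤ) = i)
    (φ : T.gr Q n) (ψ : T.gr Q' n') : T.gr X i →ₗ[K] T.gr X i :=
  (LinearEquiv.ofEq _ _ (congrArg (T.gr X) e)).toLinearMap ∘ₗ (act T p' q' n' _ ψ) ∘ₗ (act T p q n i φ)

theorem trace_compEnd_prod {X Y Q Q' : P₀.FullSubcategory} {p : Q ⟶ X} {q : Q ⟶ Y} (hQ : IsProd p q)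
    {p' : Q' ⟶ Y} {q' : Q' ⟶ X} (hQ' : IsProd p' q') {σ : Q ⟶ Q'} (hσ₁ : σ ≫ p' = q) (hσ₂ : σ ≫ q' = p)
    (r : ℤ)
    (e : ∀ i : ℤ, i + (2 * (dim X.obj.left : ℤ) + r) + 2 * (dim Y.obj.left : ℤ) - 2 * (dim Q.obj.left : ℤ) +
      (2 * (dim Y.obj.left : ℤ) - r) + 2 * (dim X.obj.left : ℤ) - 2 * (dim Q'.obj.left : ℤ) = i)
    {s t : ℤ} {a : T.H X} {b : T.H Y} {c : T.H Y} {d : T.H X} (ha : a ∈ T.gr X s)
    (hb : b ∈ T.gr Y (2 * (dim X.obj.left : ℤ) + r - s)) (hc : c ∈ T.gr Y t)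
    (hd : d ∈ T.gr X (2 * (dim Y.obj.left : ℤ) - r - t))
    (φ : T.gr Q (2 * (dim X.obj.left : ℤ) + r)) (hφ : (φ : T.H Q) = T.pull p a * T.pull q b)
    (ψ : T.gr Q' (2 * (dim Y.obj.left : ℤ) - r)) (hψ : (ψ : T.H Q') = T.pull p' c * T.pull q' d) :
    T.tr Q ((φ : T.H Q) * T.pull σ (ψ : T.H Q')) = ∑ i ∈ Finset.range (2 * dim X.obj.left + 1),
      (-1 : K) ^ i * LinearMap.trace K ↥(T.gr X (i : ℤ)) (compEnd T p q p' q' _ _ (i : ℤ) (e i) φ ψ) := by
  classical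
  have hd' := dim_prod T hQ
  have hσ : T.pull σ (ψ : T.H Q') = T.pull q c * T.pull p d := by
    rw [hψ, map_mul, ← AlgHom.comp_apply, ← T.pull_comp, hσ₁, ← AlgHom.comp_apply (T.pull σ), ← T.pull_comp, hσ₂]
  have hg : ∀ (i : ℕ) (x : T.gr X (i : ℤ)), ((compEnd T p q p' q' _ _ (i : ℤ) (e i) φ ψ x : T.gr X (i : ℤ)) : T.H X) =
      (T.tr X ((x : T.H X) * a) * T.tr Y (b * c)) • d := by
    intro i x
    have h1 := act_prod T hQ ha hb φ hφ x
    have h2 := act_prod T hQ' hc hd ψ hψ (act T p q _ _ φ x)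
    rw [h1, smul_mul_assoc, map_smul, smul_eq_mul] at h2
    exact h2
  rw [hσ, hφ]
  by_cases hbc : T.tr Y (b * c) = 0
  · rw [Finset.sum_eq_zero fun i _ ↦ ?_]
    · rw [mul_assoc, ← mul_assoc (T.pull q b), ← map_mul (T.pull q)]
      rw [pull_mul_pull_comm T p q hd (mul_mem T hb hc), mul_smul_comm, map_smul, ← mul_assoc,
        ← map_mul (T.pull p), tr_prod' T hQ, hbc, mul_zero, smul_zero]
    · rw [show compEnd T p q p' q' _ _ (i : ℤ) (e i) φ ψ = 0 from LinearMap.ext fun x ↦ Subtype.ext (by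
        rw [hg, hbc, mul_zero, zero_smul]; rfl), map_zero, mul_zero]
  have hdeg : t = 2 * (dim Y.obj.left : ℤ) - (2 * (dim X.obj.left : ℤ) + r - s) := by
    by_contra hne
    exact hbc (tr_mul_eq_zero T hb hc (by omega))
  subst hdeg
  have hd2 : d ∈ T.gr X (2 * (dim X.obj.left : ℤ) - s) := eq_of_mem T (by ring) hd
  have hlhs : T.tr Q (T.pull p a * T.pull q b * (T.pull q c * T.pull p d)) =
      T.tr X (a * d) * T.tr Y (b * c) := by
    rw [mul_assoc, ← mul_assoc (T.pull q b), ← map_mul (T.pull q),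
      mul_comm_even T (eq_of_mem T (by ring : _ = 2 * (dim Y.obj.left : ℤ))
        (T.pull_mem q _ _ (mul_mem T hb hc))) (T.pull p d), ← mul_assoc, ← map_mul (T.pull p), tr_prod' T hQ]
  rw [hlhs]
  by_cases hs : 2 * (dim X.obj.left : ℤ) - s < 0 ∨ 2 * (dim X.obj.left : ℤ) < 2 * (dim X.obj.left : ℤ) - s
  · have hd0 : d = 0 := eq_zero_of_degree T hd2 hs
    rw [Finset.sum_eq_zero fun i _ ↦ ?_]
    · simp [hd0]
    · rw [show compEnd T p q p' q' _ _ (i : ℤ) (e i) φ ψ = 0 from LinearMap.ext fun x ↦ Subtype.ext (by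
        rw [hg, hd0, smul_zero]; rfl), map_zero, mul_zero]
  push Not at hs
  obtain ⟨i, hi⟩ := Int.eq_ofNat_of_zero_le hs.1
  rw [Finset.sum_eq_single i (fun l _ hl ↦ ?_) (fun h ↦ absurd (Finset.mem_range.2 (by omega)) h)]
  · have hdi : d ∈ T.gr X (i : ℤ) := eq_of_mem T hi hd2
    let f : T.gr X (i : ℤ) →ₗ[K] K :=
      (T.tr Y (b * c)) • ((T.tr X) ∘ₗ (LinearMap.mulRight K a) ∘ₗ (T.gr X (i : ℤ)).subtype)
    rw [show compEnd T p q p' q' _ _ (i : ℤ) (e i) φ ψ = f.smulRight ⟨d, hdi⟩ from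
      LinearMap.ext fun x ↦ Subtype.ext (by
        rw [hg, mul_comm]; rfl), LinearMap.trace_smulRight]
    change T.tr X (a * d) * T.tr Y (b * c) = (-1 : K) ^ i * (T.tr Y (b * c) * T.tr X (d * a))
    rw [gradedComm_smul T hdi ha, mul_left_comm, mul_comm (T.tr X (a * d)), ← mul_assoc ((-1 : K) ^ i), ← pow_add]
    refine congrArg _ ?_
    have : Even (i + (i : ℤ).natAbs * s.natAbs) := by
      rw [Int.natAbs_natCast]
      rcases Nat.even_or_odd i with he | ho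
      · exact he.add (he.mul_right _)
      · refine ho.add_odd (ho.mul (Int.natAbs_odd.2 ?_))
        have : s = 2 * (dim X.obj.left : ℤ) - i := by omega
        rw [this]
        exact (even_two_mul _).sub_odd (by exact_mod_cast ho)
    rw [this.neg_one_pow, one_mul]
  · have hz : ∀ x : T.gr X (l : ℤ), T.tr X ((x : T.H X) * a) = 0 := fun x ↦
      tr_mul_eq_zero T x.2 ha (by omega)
    rw [show compEnd T p q p' q' _ _ (l : ℤ) (e l) φ ψ = 0 from LinearMap.ext fun x ↦ Subtype.ext (by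
      rw [hg, hz, zero_mul, zero_smul]; rfl), map_zero, mul_zero]

theorem trace_compEnd {X Y Q Q' : P₀.FullSubcategory} {p : Q ⟶ X} {q : Q ⟶ Y} (hQ : IsProd p q)
    {p' : Q' ⟶ Y} {q' : Q' ⟶ X} (hQ' : IsProd p' q') {σ : Q ⟶ Q'} (hσ₁ : σ ≫ p' = q) (hσ₂ : σ ≫ q' = p)
    (r : ℤ)
    (e : ∀ i : ℤ, i + (2 * (dim X.obj.left : ℤ) + r) + 2 * (dim Y.obj.left : ℤ) - 2 * (dim Q.obj.left : ℤ) +
      (2 * (dim Y.obj.left : ℤ) - r) + 2 * (dim X.obj.left : ℤ) - 2 * (dim Q'.obj.left : ℤ) = i)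
    (φ : T.gr Q (2 * (dim X.obj.left : ℤ) + r)) (ψ : T.gr Q' (2 * (dim Y.obj.left : ℤ) - r)) :
    T.tr Q ((φ : T.H Q) * T.pull σ (ψ : T.H Q')) = ∑ i ∈ Finset.range (2 * dim X.obj.left + 1),
      (-1 : K) ^ i * LinearMap.trace K ↥(T.gr X (i : ℤ)) (compEnd T p q p' q' _ _ (i : ℤ) (e i) φ ψ) := by
  obtain ⟨φ, hφm⟩ := φ
  have hφ := mem_span_prod T hQ hφm
  induction hφ using Submodule.span_induction with
  | mem x hx =>
    obtain ⟨s, a, ha, b, hb, rfl⟩ := hx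
    obtain ⟨ψ, hψm⟩ := ψ
    have hψ := mem_span_prod T hQ' hψm
    induction hψ using Submodule.span_induction with
    | mem y hy =>
      obtain ⟨t, c, hc, d, hd, rfl⟩ := hy
      exact trace_compEnd_prod T hQ hQ' hσ₁ hσ₂ r e ha hb hc hd ⟨_, hφm⟩ rfl ⟨_, hψm⟩ rfl
    | zero =>
      rw [map_zero, mul_zero, map_zero]
      refine (Finset.sum_eq_zero fun i _ ↦ ?_).symm
      rw [show compEnd T p q p' q' _ _ (i : ℤ) (e i) ⟨_, hφm⟩ ⟨0, hψm⟩ = 0 by
        rw [compEnd, show (⟨0, hψm⟩ : T.gr Q' _) = (0 : K) • 0 from Subtype.ext (by simp), act_smul, zero_smul,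
          LinearMap.zero_comp, LinearMap.comp_zero], map_zero, mul_zero]
    | add y z hy hz ihy ihz =>
      have hym : y ∈ T.gr Q' (2 * (dim Y.obj.left : ℤ) - r) := SetLike.le_def.1 (Submodule.span_le.2 (by
        rintro _ ⟨t, c, hc, d, hd, rfl⟩
        exact eq_of_mem T (by ring) (mul_mem T (T.pull_mem p' _ _ hc) (T.pull_mem q' _ _ hd)))) hy
      have hzm : z ∈ T.gr Q' (2 * (dim Y.obj.left : ℤ) - r) := SetLike.le_def.1 (Submodule.span_le.2 (by
        rintro _ ⟨t, c, hc, d, hd, rfl⟩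
        exact eq_of_mem T (by ring) (mul_mem T (T.pull_mem p' _ _ hc) (T.pull_mem q' _ _ hd)))) hz
      have e1 : (⟨y + z, hψm⟩ : T.gr Q' (2 * (dim Y.obj.left : ℤ) - r)) = ⟨y, hym⟩ + ⟨z, hzm⟩ := rfl
      simp only [map_add, mul_add, ihy hym, ihz hzm, ← Finset.sum_add_distrib]
      refine Finset.sum_congr rfl fun i _ ↦ ?_
      simp only [e1, compEnd, act_add, LinearMap.add_comp, LinearMap.comp_add, map_add, mul_add]
    | smul c y hy ih =>
      have hym : y ∈ T.gr Q' (2 * (dim Y.obj.left : ℤ) - r) := SetLike.le_def.1 (Submodule.span_le.2 (by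
        rintro _ ⟨t, c, hc, d, hd, rfl⟩
        exact eq_of_mem T (by ring) (mul_mem T (T.pull_mem p' _ _ hc) (T.pull_mem q' _ _ hd)))) hy
      have e1 : (⟨c • y, hψm⟩ : T.gr Q' (2 * (dim Y.obj.left : ℤ) - r)) = c • ⟨y, hym⟩ := rfl
      simp only [map_smul, mul_smul_comm, ih hym, Finset.smul_sum]
      refine Finset.sum_congr rfl fun i _ ↦ ?_
      simp only [e1, compEnd, act_smul, LinearMap.smul_comp, LinearMap.comp_smul, map_smul, smul_eq_mul]
      ring
  | zero =>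
    rw [zero_mul, map_zero]
    refine (Finset.sum_eq_zero fun i _ ↦ ?_).symm
    rw [show compEnd T p q p' q' _ _ (i : ℤ) (e i) ⟨0, hφm⟩ ψ = 0 by
      rw [compEnd, show (⟨0, hφm⟩ : T.gr Q _) = (0 : K) • 0 from Subtype.ext (by simp), act_smul, zero_smul,
        LinearMap.comp_zero, LinearMap.comp_zero], map_zero, mul_zero]
  | add y z hy hz ihy ihz =>
    have hym : y ∈ T.gr Q (2 * (dim X.obj.left : ℤ) + r) := SetLike.le_def.1 (Submodule.span_le.2 (by
      rintro _ ⟨t, c, hc, d, hd, rfl⟩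
      exact eq_of_mem T (by ring) (mul_mem T (T.pull_mem p _ _ hc) (T.pull_mem q _ _ hd)))) hy
    have hzm : z ∈ T.gr Q (2 * (dim X.obj.left : ℤ) + r) := SetLike.le_def.1 (Submodule.span_le.2 (by
      rintro _ ⟨t, c, hc, d, hd, rfl⟩
      exact eq_of_mem T (by ring) (mul_mem T (T.pull_mem p _ _ hc) (T.pull_mem q _ _ hd)))) hz
    have e1 : (⟨y + z, hφm⟩ : T.gr Q (2 * (dim X.obj.left : ℤ) + r)) = ⟨y, hym⟩ + ⟨z, hzm⟩ := rfl
    simp only [add_mul, map_add, ihy hym, ihz hzm, ← Finset.sum_add_distrib]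
    refine Finset.sum_congr rfl fun i _ ↦ ?_
    simp only [e1, compEnd, act_add, LinearMap.comp_add, map_add, mul_add]
  | smul c y hy ih =>
    have hym : y ∈ T.gr Q (2 * (dim X.obj.left : ℤ) + r) := SetLike.le_def.1 (Submodule.span_le.2 (by
      rintro _ ⟨t, c, hc, d, hd, rfl⟩
      exact eq_of_mem T (by ring) (mul_mem T (T.pull_mem p _ _ hc) (T.pull_mem q _ _ hd)))) hy
    have e1 : (⟨c • y, hφm⟩ : T.gr Q (2 * (dim X.obj.left : ℤ) + r)) = c • ⟨y, hym⟩ := rfl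
    simp only [smul_mul_assoc, map_smul, ih hym, Finset.smul_sum]
    refine Finset.sum_congr rfl fun i _ ↦ ?_
    simp only [e1, compEnd, act_smul, LinearMap.comp_smul, map_smul, smul_eq_mul]
    ring

/-- Every degree-`r` map of graded spaces is given by a class on the product. -/
theorem act_surjective {X Y Q : P₀.FullSubcategory} {p : Q ⟶ X} {q : Q ⟶ Y} (hQ : IsProd p q) {r : ℤ}
    (g : (i : ℤ) → T.gr X i →ₗ[K] T.gr Y
      (i + (2 * (dim X.obj.left : ℤ) + r) + 2 * (dim Y.obj.left : ℤ) - 2 * (dim Q.obj.left : ℤ))) :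
    ∃ φ : T.gr Q (2 * (dim X.obj.left : ℤ) + r), ∀ i, act T p q _ i φ = g i := by
  classical
  have hd := dim_prod T hQ
  have hf : ∀ i : ℕ, ∃ f : Fin (Module.finrank K (T.gr X (i : ℤ))) → T.gr X (2 * (dim X.obj.left : ℤ) - i),
      ∀ (x : T.gr X (i : ℤ)) l, (Module.finBasis K (T.gr X (i : ℤ))).repr x l =
        T.tr X ((f l : T.H X) * (x : T.H X)) := by
    intro i
    haveI := T.duality X (2 * (dim X.obj.left : ℤ) - i) i (by omega)
    refine ⟨fun l ↦ (pairing K (T.gr X (2 * (dim X.obj.left : ℤ) - i)) (T.gr X (i : ℤ)) (T.tr X)).toPerfPair.symm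
      ((Module.finBasis K (T.gr X (i : ℤ))).coord l), fun x l ↦ ?_⟩
    exact (LinearMap.congr_fun (LinearMap.apply_symm_toPerfPair_self
      (pairing K (T.gr X (2 * (dim X.obj.left : ℤ) - i)) (T.gr X (i : ℤ)) (T.tr X))
      ((Module.finBasis K (T.gr X (i : ℤ))).coord l)) x).symm
  choose f hf using hf
  let term : ∀ i : ℕ, Fin (Module.finrank K (T.gr X (i : ℤ))) → T.gr Q (2 * (dim X.obj.left : ℤ) + r) :=
    fun i l ↦ (-1 : K) ^ i • ⟨T.pull p (f i l : T.H X) * T.pull q (g i (Module.finBasis K _ l) : T.H Y),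
      eq_of_mem T (by omega) (mul_mem T (T.pull_mem p _ _ (f i l).2) (T.pull_mem q _ _ (g i _).2))⟩
  refine ⟨∑ i ∈ Finset.range (2 * dim X.obj.left + 1), ∑ l, term i l, fun j ↦ ?_⟩
  by_cases hj : j < 0 ∨ 2 * (dim X.obj.left : ℤ) < j
  · refine LinearMap.ext fun x ↦ ?_
    rw [show x = 0 from Subtype.ext (eq_zero_of_degree T x.2 hj), map_zero, map_zero]
  push Not at hj
  obtain ⟨j, rfl⟩ := Int.eq_ofNat_of_zero_le hj.1
  refine LinearMap.ext fun x ↦ Subtype.ext ?_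
  let A : T.gr Q (2 * (dim X.obj.left : ℤ) + r) →ₗ[K] T.H Y :=
    { toFun := fun φ ↦ (act T p q _ (j : ℤ) φ x : T.H Y)
      map_add' := fun φ ψ ↦ by simp only [act_add, LinearMap.add_apply, Submodule.coe_add]
      map_smul' := fun c φ ↦ by simp only [act_smul, LinearMap.smul_apply, Submodule.coe_smul, RingHom.id_apply] }
  change A _ = _
  have hterm : ∀ i l, A (term i l) =
      ((-1 : K) ^ i * T.tr X ((x : T.H X) * (f i l : T.H X))) • (g i (Module.finBasis K _ l) : T.H Y) := by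
    intro i l
    rw [mul_smul, map_smul]
    exact congrArg _ (act_prod T hQ (f i l).2 (eq_of_mem T (by omega) (g i _).2) ⟨_, _⟩ rfl x)
  simp only [map_sum, hterm]
  rw [Finset.sum_eq_single j (fun i _ hi ↦ Finset.sum_eq_zero fun l _ ↦ by
      rw [tr_mul_eq_zero T x.2 (f i l).2 (by omega), mul_zero, zero_smul])
    (fun h ↦ absurd (Finset.mem_range.2 (by omega)) h)]
  conv_rhs => rw [← (Module.finBasis K (T.gr X (j : ℤ))).sum_repr x, map_sum, Submodule.coe_sum]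
  refine Finset.sum_congr rfl fun l _ ↦ ?_
  rw [map_smul, Submodule.coe_smul, hf, gradedComm_smul T x.2 (f j l).2, ← mul_assoc, ← pow_add]
  congr 1
  have : Even (j + (j : ℤ).natAbs * (2 * (dim X.obj.left : ℤ) - j).natAbs) := by
    rw [Int.natAbs_natCast]
    rcases Nat.even_or_odd j with he | ho
    · exact he.add (he.mul_right _)
    · refine ho.add_odd (ho.mul (Int.natAbs_odd.2 ?_))
      exact (even_two_mul _).sub_odd (by exact_mod_cast ho)
  rw [this.neg_one_pow, one_mul]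

end Groth.Agent.WeilH13
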