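import Groth.Agent.Lib.WeilH13.Cl
import Groth.Prelude.Def_ChowOps
import Mathlib.RingTheory.MvPolynomial.Homogeneous

/-!
Properness of the objects and classes of cycles.
-/

set_option backward.isDefEq.respectTransparency.types false
universe u v w

open AlgebraicGeometry CategoryTheory

namespace Groth.Agent.WeilH13

open WeilCoh Groth.Agent.VarDim

theorem isProper_projSpace_toSpec (n : ℕ) (R : Type u) [CommRing R] :
    IsProper (CohB1.ProjSpace.toSpec n R) := by
  haveI : Algebra.FiniteType (CohB1.polyGrading n R 0) (MvPolynomial (Fin (n + 1)) R) :=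
    haveI : IsScalarTower R (CohB1.polyGrading n R 0) (MvPolynomial (Fin (n + 1)) R) :=
      IsScalarTower.of_algebraMap_eq (R := R) (S := CohB1.polyGrading n R 0)
        (A := MvPolynomial (Fin (n + 1)) R) fun _ ↦ rfl
    Algebra.FiniteType.of_restrictScalars_finiteType R (CohB1.polyGrading n R 0) _
  have hsurj : Function.Surjective (algebraMap R (CohB1.polyGrading n R 0)) := by
    rintro ⟨x, hx⟩
    have h : x ∈ (1 : Submodule R (MvPolynomial (Fin (n + 1)) R)) := by
      rw [← MvPolynomial.homogeneousSubmodule_zero]; exact hx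
    obtain ⟨r, hr⟩ := Submodule.mem_one.1 h
    exact ⟨r, Subtype.ext hr⟩
  haveI : IsClosedImmersion (Spec.map (CommRingCat.ofHom (algebraMap R (CohB1.polyGrading n R 0)))) :=
    IsClosedImmersion.spec_of_surjective _ hsurj
  exact MorphismProperty.comp_mem (@IsProper) _ _ (inferInstance : IsProper (Proj.toSpecZero _))
    inferInstance

variable {k : Type u} [Field k]

instance var_isProper (X : Var k) : IsProper X.obj.hom := by
  obtain ⟨-, ⟨n, i, hi, hi'⟩, -⟩ := X.property
  haveI := isProper_projSpace_toSpec n (ULift.{u} ℤ)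
  haveI : IsProper (CohB1.ProjSpaceOver.toBase n (Spec (CommRingCat.of k))) := by
    unfold CohB1.ProjSpaceOver.toBase; exact MorphismProperty.pullback_snd _ _ inferInstance
  rw [← hi']
  exact MorphismProperty.comp_mem (@IsProper) _ _ inferInstance inferInstance

instance var_compactSpace (X : Var k) : CompactSpace X.obj.left :=
  haveI : CompactSpace (Spec (CommRingCat.of k)) := inferInstanceAs (CompactSpace (PrimeSpectrum k))
  QuasiCompact.compactSpace_of_compactSpace X.obj.hom

theorem delta_eq_pdim (X : Var k) {δ : X.obj.left → ℤ} (hδ : Cyc.DeltaCompat X.obj.hom δ (fun _ => 0))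
    (x : X.obj.left) : δ x = pdim X.obj.left x := by
  obtain ⟨n, hn, hx⟩ := hδ x
  let s := X.obj.hom x
  have h0 : sdim (𝟙 (Spec (CommRingCat.of k))) s = 0 := by
    rw [sdim_eq_zero_iff_isClosed]
    have : Subsingleton (Spec (CommRingCat.of k)) := inferInstanceAs (Subsingleton (PrimeSpectrum k))
    exact isClosed_discrete _
  have h := trdeg_comp (𝟙 (Spec (CommRingCat.of k))) X.obj.hom x
  rw [trdeg_residueField (𝟙 (Spec (CommRingCat.of k))) (X.obj.hom x),
    trdeg_residueField (X.obj.hom ≫ 𝟙 _) x, h0, Nat.cast_zero, zero_add, hn, Nat.cast_inj] at h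
  rw [hx, zero_add, sdim_eq_pdim, ← h, Category.comp_id]

theorem finite_support (X : Var k) (α : AlgebraicCycle X.obj.left ℤ) :
    (Function.support (α : X.obj.left → ℤ)).Finite := by
  have h : LocallyFiniteSupport (α : X.obj.left → ℤ) := fun z ↦
    α.supportLocallyFiniteWithinDomain' z trivial
  simpa using h.finite_inter_support_of_isCompact isCompact_univ

variable {K : Type v} [Field K] (T : TheoryOn.{u, v, w} k (IsVar k) K)

theorem clCyc_eq_sum (X : Var k) (α : AlgebraicCycle X.obj.left ℤ) {S : Finset X.obj.left}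
    (hS : Function.support (α : X.obj.left → ℤ) ⊆ S) :
    T.clCyc X α = ∑ x ∈ S, ((α x : ℤ) : K) • T.cl X x := by
  refine finsum_eq_finsetSum_of_support_subset _ fun x hx ↦ hS fun h0 ↦ hx ?_
  show ((α x : ℤ) : K) • T.cl X x = 0
  rw [h0, Int.cast_zero, zero_smul]

theorem clCyc_map {X Y : Var k} (f : X ⟶ Y) [QuasiCompact (sm f)]
    {δX : X.obj.left → ℤ} (hδX : Cyc.DeltaCompat X.obj.hom δX (fun _ => 0))
    {δY : Y.obj.left → ℤ} (hδY : Cyc.DeltaCompat Y.obj.hom δY (fun _ => 0))
    (α : AlgebraicCycle X.obj.left ℤ) {S : Finset X.obj.left}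
    (hS : Function.support (α : X.obj.left → ℤ) ⊆ S) :
    T.clCyc Y (AlgebraicCycle.map (sm f) δX δY α) =
      ∑ x ∈ S, ((α x : ℤ) : K) • (((sm f).residueDegree x : K) • T.cl Y (sm f x)) := by
  classical
  have hw : ∀ x, AlgebraicCycle.mapCoeff (sm f) δX δY x = (sm f).residueDegree x := by
    intro x
    rw [AlgebraicCycle.mapCoeff]
    split_ifs with h
    · rfl
    · by_contra hne
      exact h (by rw [delta_eq_pdim X hδX, delta_eq_pdim Y hδY,
        pdim_eq_of_residueDegree_ne_zero f x (Ne.symm hne)])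
  have hval : ∀ y, (AlgebraicCycle.map (sm f) δX δY α : Y.obj.left → ℤ) y =
      ∑ x ∈ S with sm f x = y, α x * ((sm f).residueDegree x : ℤ) := by
    intro y
    rw [AlgebraicCycle.map, Function.locallyFinsupp.map_apply]
    simp only [hw]
    refine (finsum_mem_eq_sum_of_inter_support_eq (fun x ↦ α x * ((sm f).residueDegree x : ℤ)) ?_)
    ext x
    simp only [Set.mem_inter_iff, Set.mem_preimage, Set.mem_singleton_iff, Finset.coe_filter,
      Set.mem_setOf_eq, Function.mem_support]
    exact ⟨fun h ↦ ⟨⟨hS (left_ne_zero_of_mul h.2), h.1⟩, h.2⟩, fun h ↦ ⟨h.1.2, h.2⟩⟩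
  rw [clCyc_eq_sum T Y _ (S := S.image (sm f))]
  · rw [← Finset.sum_fiberwise_of_maps_to (g := sm f) (t := S.image (sm f))
      fun x hx ↦ Finset.mem_image_of_mem _ hx]
    refine Finset.sum_congr rfl fun y _ ↦ ?_
    rw [hval, Int.cast_sum, Finset.sum_smul]
    refine Finset.sum_congr rfl fun x hx ↦ ?_
    rw [Int.cast_mul, Int.cast_natCast, mul_smul, (Finset.mem_filter.1 hx).2]
  · intro y hy
    obtain ⟨x, hx, -⟩ := Finset.exists_ne_zero_of_sum_ne_zero ((hval y).symm.trans_ne hy)
    exact Finset.mem_coe.2 (Finset.mem_image.2 ⟨x, (Finset.mem_filter.1 hx).1, (Finset.mem_filter.1 hx).2⟩)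

theorem tr_cl_push_mul {X Y : Var k} (f : X ⟶ Y) (x : X.obj.left) (b : T.H Y) :
    ((sm f).residueDegree x : K) * T.tr Y (T.cl Y (sm f x) * b) = T.tr X (T.cl X x * T.pull f b) := by
  have h := tr_push T f _ ⟨T.cl X x, T.cl_mem X x⟩ b
  rw [push_cl, smul_mul_assoc, map_smul, smul_eq_mul] at h
  exact h

end Groth.Agent.WeilH13

namespace Groth.Agent.WeilH13

open WeilCoh

variable {k : Type u} [Field k] [IsAlgClosed k] {K : Type v} [Field K] (T : TheoryOn.{u, v, w} k (IsVar k) K)

theorem isClosed_of_mem_Zk (X : Var k) {δ : X.obj.left → ℤ}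
    (hδ : Cyc.DeltaCompat X.obj.hom δ (fun _ => 0)) {α : AlgebraicCycle X.obj.left ℤ}
    (hα : α ∈ Cyc.Zk X.obj.left δ 0) {x : X.obj.left} (hx : α x ≠ 0) :
    IsClosed ({x} : Set X.obj.left) := by
  rw [← pdim_eq_zero_iff, ← Int.natCast_eq_zero, ← delta_eq_pdim X hδ]
  by_contra hne
  exact hx (hα x hne)

theorem deg_eq_tr (X : Var k) [QuasiCompact X.obj.hom] {δ : X.obj.left → ℤ}
    (hδ : Cyc.DeltaCompat X.obj.hom δ (fun _ => 0)) (α : AlgebraicCycle X.obj.left ℤ)
    (hα : α ∈ Cyc.Zk X.obj.left δ 0) :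
    (ChowOps.deg X.obj.hom δ α : K) = T.tr X (T.clCyc X α) := by
  classical
  have hfin := finite_support X α
  have hS : Function.support (α : X.obj.left → ℤ) ⊆ hfin.toFinset := by simp
  rw [clCyc_eq_sum T X α hS, map_sum, ChowOps.deg, AlgebraicCycle.map, Function.locallyFinsupp.map_apply]
  have hpt : ∀ x : X.obj.left, X.obj.hom x = IsLocalRing.closedPoint k := fun x ↦
    haveI : Subsingleton (Spec (CommRingCat.of k)) := inferInstanceAs (Subsingleton (PrimeSpectrum k))
    Subsingleton.elim _ _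
  rw [finsum_mem_eq_sum_of_inter_support_eq
    (fun x ↦ α x * ((AlgebraicCycle.mapCoeff X.obj.hom δ (fun _ => (0 : ℤ)) x : ℕ) : ℤ))
    (t := hfin.toFinset) ?_, Int.cast_sum]
  · refine Finset.sum_congr rfl fun x hx ↦ ?_
    have hc := isClosed_of_mem_Zk X hδ hα (by simpa using hx)
    rw [map_smul, smul_eq_mul, tr_cl_closedPoint T X x hc, AlgebraicCycle.mapCoeff, if_pos,
      residueDegree_toPoint X x hc, Nat.cast_one, mul_one, mul_one]
    rw [delta_eq_pdim X hδ, (pdim_eq_zero_iff X x).2 hc]; rfl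
  · ext x
    simp only [Set.mem_inter_iff, Set.mem_preimage, Set.mem_singleton_iff, Finset.mem_coe,
      Set.Finite.mem_toFinset, Function.mem_support]
    exact ⟨fun h ↦ ⟨left_ne_zero_of_mul h.2, h.2⟩, fun h ↦ ⟨hpt x, h.2⟩⟩

theorem isHomEquivZero_iff [CharZero K] (X : Var k) [QuasiCompact X.obj.hom] {δ : X.obj.left → ℤ}
    (hδ : Cyc.DeltaCompat X.obj.hom δ (fun _ => 0)) (α : AlgebraicCycle X.obj.left ℤ)
    (hα : α ∈ Cyc.Zk X.obj.left δ 0) :
    T.IsHomEquivZero X α ↔ ChowOps.deg X.obj.hom δ α = 0 := by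
  classical
  have hfin := finite_support X α
  have hS : Function.support (α : X.obj.left → ℤ) ⊆ hfin.toFinset := by simp
  have hmem : T.clCyc X α ∈ T.gr X (2 * (dim X.obj.left : ℤ)) := by
    rw [clCyc_eq_sum T X α hS]
    refine Submodule.sum_mem _ fun x hx ↦ Submodule.smul_mem _ _ (eq_of_mem T ?_ (T.cl_mem X x))
    rw [codim_cast, (pdim_eq_zero_iff X x).2 (isClosed_of_mem_Zk X hδ hα (by simpa using hx))]
    simp
  rw [WeilCoh.TheoryOn.IsHomEquivZero, ← Int.cast_eq_zero (α := K), deg_eq_tr T X hδ α hα]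
  refine ⟨fun h ↦ by rw [h, map_zero], fun h ↦ ?_⟩
  exact congrArg Subtype.val ((T.tr_bijective X).1 (a₁ := ⟨_, hmem⟩) (a₂ := 0) (by simpa using h))

end Groth.Agent.WeilH13
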