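import Groth.Agent.Lib.WeilH13.Cl

/-!
The class of a graph in Künneth coordinates and the trace formula.
-/

set_option backward.isDefEq.respectTransparency.types false
universe u v w

open AlgebraicGeometry CategoryTheory

namespace Groth.Agent.WeilH13

open WeilCoh

variable {k : Type u} [Field k] {K : Type v} [Field K] (T : TheoryOn.{u, v, w} k (IsVar k) K)

theorem neg_one_pow_natAbs_eq {a b : ℕ} (h : Even (a + b)) : (-1 : K) ^ a = (-1 : K) ^ b := by
  rcases Nat.even_or_odd a with ha | ha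
  · rw [ha.neg_one_pow, ((Nat.even_add.1 h).1 ha).neg_one_pow]
  · have hb : Odd b := Nat.not_even_iff_odd.1 fun hb ↦ Nat.not_even_iff_odd.2 ha ((Nat.even_add.1 h).2 hb)
    rw [ha.neg_one_pow, hb.neg_one_pow]

theorem exists_dualBases (X : Var k) (r : ℕ) :
    ∃ f : Fin (Module.finrank K (T.gr X (r : ℤ))) → T.gr X (2 * (dim X.obj.left : ℤ) - r),
      ∀ i l, T.tr X ((f l : T.H X) * (Module.finBasis K (T.gr X (r : ℤ)) i : T.H X)) =
        if i = l then 1 else 0 := by
  haveI := T.duality X (2 * (dim X.obj.left : ℤ) - r) r (by omega)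
  refine ⟨fun l ↦ (pairing K (T.gr X (2 * (dim X.obj.left : ℤ) - r)) (T.gr X (r : ℤ)) (T.tr X)).toPerfPair.symm
    ((Module.finBasis K (T.gr X (r : ℤ))).coord l), fun i l ↦ ?_⟩
  refine (LinearMap.congr_fun (LinearMap.apply_symm_toPerfPair_self
    (pairing K (T.gr X (2 * (dim X.obj.left : ℤ) - r)) (T.gr X (r : ℤ)) (T.tr X))
    ((Module.finBasis K (T.gr X (r : ℤ))).coord l)) (Module.finBasis K (T.gr X (r : ℤ)) i)).trans ?_
  rw [Module.Basis.coord_apply, Module.Basis.repr_self, Finsupp.single_apply]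

variable {X P : Var k} {φ : X ⟶ X} {p q : P ⟶ X} {j : X ⟶ P}

section

variable {ι : ℕ → Type*} [∀ r, Fintype (ι r)] [∀ r, DecidableEq (ι r)]
  {e : (r : ℕ) → Module.Basis (ι r) K ↥(T.gr X (r : ℤ))}
  {f : (r : ℕ) → ι r → ↥(T.gr X (2 * (dim X.obj.left : ℤ) - r))}

theorem repr_eq_tr {r : ℕ} (hef : ∀ i l : ι r,
    T.tr X ((f r l : T.H X) * (e r i : T.H X)) = if i = l then 1 else 0) (b : T.gr X (r : ℤ)) (l : ι r) :
    (e r).repr b l = T.tr X ((f r l : T.H X) * (b : T.H X)) := by
  have : (e r).coord l = (T.tr X) ∘ₗ (LinearMap.mulLeft K (f r l : T.H X)) ∘ₗ (T.gr X (r : ℤ)).subtype :=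
    (e r).ext fun i ↦ by
      rw [Module.Basis.coord_apply, Module.Basis.repr_self, Finsupp.single_apply]
      exact (hef i l).symm
  exact LinearMap.congr_fun this b

theorem cl_graph_eq (hP : IsProd p q) (hjp : j ≫ p = 𝟙 X) (hjq : j ≫ q = φ)
    (hef : ∀ r, r ≤ 2 * dim X.obj.left → ∀ i l : ι r,
      T.tr X ((f r l : T.H X) * (e r i : T.H X)) = if i = l then 1 else 0) :
    T.cl P (sm j (genericPoint X.obj.left)) =
      ∑ r ∈ Finset.range (2 * dim X.obj.left + 1), ∑ i : ι r,
        T.pull p (T.pull φ (e r i : T.H X)) * T.pull q (f r i : T.H X) := by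
  have hd := dim_prod T hP
  refine ext_of_tr' T (i := 2 * (dim X.obj.left : ℤ))
    (eq_of_mem T (by rw [hd]; ring) (cl_graph_mem T hjp))
    (Submodule.sum_mem _ fun r _ ↦ Submodule.sum_mem _ fun i _ ↦ eq_of_mem T (by ring)
      (SetLike.mul_mem_graded (T.pull_mem p _ _ (T.pull_mem φ _ _ (e r i).2)) (T.pull_mem q _ _ (f r i).2)))
    fun c ↦ ?_
  induction c using induction_prod T hP with
  | hadd b₁ b₂ h₁ h₂ => simp only [map_add, mul_add, h₁, h₂]
  | hmem s t a ha b hb =>
    rw [tr_graph_mul T hjp, map_mul, ← AlgHom.comp_apply, ← T.pull_comp, hjp, ← AlgHom.comp_apply,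
      ← T.pull_comp, hjq, T.pull_id, AlgHom.id_apply]
    simp only [Finset.sum_mul, map_sum]
    simp only [fun r i ↦ tr_prod_four T hP (T.pull φ (e r i : T.H X)) b (f r i).2 ha]
    by_cases hst : s + t = 2 * (dim X.obj.left : ℤ)
    · by_cases ht : t < 0 ∨ 2 * (dim X.obj.left : ℤ) < t
      · simp [eq_zero_of_degree T hb ht]
      push Not at ht
      obtain ⟨t, rfl⟩ := Int.eq_ofNat_of_zero_le ht.1
      rw [Finset.sum_eq_single t (fun r _ hr ↦ Finset.sum_eq_zero fun i _ ↦ ?_)
        (fun h ↦ absurd (Finset.mem_range.2 (by omega)) h)]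
      · have hb' : b = ∑ i : ι t, T.tr X ((f t i : T.H X) * b) • (e t i : T.H X) := by
          have := congrArg Subtype.val ((e t).sum_repr ⟨b, hb⟩)
          rw [Submodule.coe_sum] at this
          exact this.symm.trans (Finset.sum_congr rfl fun i _ ↦ by
            rw [repr_eq_tr T (hef t (by omega)) ⟨b, hb⟩ i]; rfl)
        calc T.tr X (a * T.pull φ b)
            = (-1 : K) ^ (s.natAbs * (t : ℤ).natAbs) * T.tr X (T.pull φ b * a) :=
              gradedComm_smul T ha (T.pull_mem φ _ _ hb)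
          _ = (-1 : K) ^ ((2 * (dim X.obj.left : ℤ) - t).natAbs * s.natAbs) *
                T.tr X (T.pull φ b * a) := by
              rw [show (2 * (dim X.obj.left : ℤ) - t) = s by omega]
              congr 1
              refine neg_one_pow_natAbs_eq ?_
              rw [← mul_add, Nat.even_mul]
              right
              rw [← Int.even_coe_nat, Nat.cast_add, Int.even_add, Int.natCast_natAbs, Int.natCast_natAbs,
                even_abs, even_abs, ← Int.even_add]
              exact ⟨(dim X.obj.left : ℤ), by omega⟩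
          _ = _ := by
              conv_lhs => rw [hb']
              simp only [map_sum, map_smul, Finset.sum_mul, smul_mul_assoc, smul_eq_mul, Finset.mul_sum]
              exact Finset.sum_congr rfl fun i _ ↦ by ring
      · rw [tr_mul_eq_zero T (f r i).2 hb (by omega), mul_zero, mul_zero]
    · rw [tr_mul_eq_zero T ha (T.pull_mem φ t b hb) hst]
      refine (Finset.sum_eq_zero fun r _ ↦ Finset.sum_eq_zero fun i _ ↦ ?_).symm
      by_cases hs : (r : ℤ) + s = 2 * (dim X.obj.left : ℤ)
      · rw [tr_mul_eq_zero T (f r i).2 hb (by omega), mul_zero, mul_zero]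
      · rw [tr_mul_eq_zero T (T.pull_mem φ _ _ (e r i).2) ha hs, zero_mul, mul_zero]

end

theorem trace_formula (hP : IsProd p q) {d : X ⟶ P} (hjp : j ≫ p = 𝟙 X) (hjq : j ≫ q = φ)
    (hdp : d ≫ p = 𝟙 X) (hdq : d ≫ q = 𝟙 X) :
    T.tr P (T.cl P (sm j (genericPoint X.obj.left)) * T.cl P (sm d (genericPoint X.obj.left))) =
      ∑ r ∈ Finset.range (2 * dim X.obj.left + 1),
        (-1 : K) ^ r * LinearMap.trace K ↥(T.gr X (r : ℤ)) (T.pullDeg φ (r : ℤ)) := by
  choose f hf using exists_dualBases T X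
  rw [mul_comm_even T (T.cl_mem P _), tr_graph_mul T hdp,
    cl_graph_eq T (e := fun r ↦ Module.finBasis K (T.gr X (r : ℤ))) (f := f) hP hjp hjq
      (fun r _ ↦ hf r)]
  simp only [map_sum]
  refine Finset.sum_congr rfl fun r _ ↦ ?_
  rw [LinearMap.trace_eq_matrix_trace K (Module.finBasis K (T.gr X (r : ℤ))), Matrix.trace, Finset.mul_sum]
  refine Finset.sum_congr rfl fun i _ ↦ ?_
  rw [Matrix.diag_apply, LinearMap.toMatrix_apply,
    repr_eq_tr T (e := fun r ↦ Module.finBasis K (T.gr X (r : ℤ))) (hf r),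
    map_mul, ← AlgHom.comp_apply, ← T.pull_comp, hdp, ← AlgHom.comp_apply (T.pull d), ← T.pull_comp, hdq,
    T.pull_id]
  refine (gradedComm_smul T (T.pull_mem φ _ _ (Module.finBasis K (T.gr X (r : ℤ)) i).2) (f r i).2).trans ?_
  congr 1
  refine neg_one_pow_natAbs_eq ?_
  rw [Int.natAbs_natCast]
  rcases Nat.even_or_odd r with hr | hr
  · exact (hr.mul_right _).add hr
  · refine (hr.mul ?_).add_odd hr
    rw [Int.natAbs_odd]
    exact ((even_two_mul _).sub_odd (by exact_mod_cast hr))

end Groth.Agent.WeilH13
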