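import Groth.Agent.Lib.WeilH13.Frob
import Groth.Agent.Lib.WeilH13.Graph
import Mathlib.AlgebraicGeometry.PullbackCarrier
import Mathlib.AlgebraicGeometry.AlgClosed.Basic
import Mathlib.AlgebraicGeometry.Noetherian

/-!
Iterates of the Frobenius and the intersection of their graphs with the diagonal.
-/

set_option backward.isDefEq.respectTransparency.types false
universe u v w

open AlgebraicGeometry CategoryTheory

namespace Groth.Agent.WeilH13

open WeilCoh Groth.Agent.VarDim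

theorem appLE_id {X : Scheme.{u}} (U : X.Opens) (a : Γ(X, U)) (e : U ≤ (𝟙 X : X ⟶ X) ⁻¹ᵁ U) :
    (𝟙 X : X ⟶ X).appLE U U e a = a := by
  simp only [Scheme.Hom.appLE, Scheme.Hom.id_app]
  exact ConcreteCategory.congr_hom (X.presheaf.map_id _) a

theorem appLE_comp_apply {X Y Z : Scheme.{u}} {f : X ⟶ Y} {g : Y ⟶ Z} {h : X ⟶ Z} (hh : f ≫ g = h)
    {U : Z.Opens} {V : Y.Opens} {W : X.Opens} (e₁ : V ≤ g ⁻¹ᵁ U) (e₂ : W ≤ f ⁻¹ᵁ V) (e₃ : W ≤ h ⁻¹ᵁ U)
    (a : Γ(Z, U)) : f.appLE V W e₂ (g.appLE U V e₁ a) = h.appLE U W e₃ a := by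
  subst hh
  exact ConcreteCategory.congr_hom (Scheme.Hom.appLE_comp_appLE f g U V W e₁ e₂) a

theorem sm_comp_apply {k : Type u} [Field k] {X Y Z : Var k} {f : X ⟶ Y} {g : Y ⟶ Z} {h : X ⟶ Z}
    (hh : f ≫ g = h) (x : X.obj.left) : sm g (sm f x) = sm h x := by
  subst hh; rfl

namespace FrobData

variable {k₀ k : Type u} [Field k₀] [Field k] [Algebra k₀ k] (D : FrobData k₀ k)

local notation "qn" m:max => Nat.card k₀ ^ m

/-- The iterates of the Frobenius. -/
noncomputable def Fm : ℕ → (D.Xb ⟶ D.Xb)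
  | 0 => 𝟙 _
  | m + 1 => Fm m ≫ D.F

/-- The iterates of the absolute Frobenius of `X`. -/
noncomputable def FXm : ℕ → (D.X ⟶ D.X)
  | 0 => 𝟙 _
  | m + 1 => FXm m ≫ D.FX

theorem comm_iter : ∀ m, sm (D.Fm m) ≫ D.π = D.π ≫ D.FXm m
  | 0 => (Category.id_comp _).trans (Category.comp_id _).symm
  | m + 1 => by
    change (sm (D.Fm m) ≫ sm D.F) ≫ D.π = D.π ≫ D.FXm m ≫ D.FX
    rw [Category.assoc, D.comm, ← Category.assoc, comm_iter m, Category.assoc]

theorem FXm_apply : ∀ (m : ℕ) (x : D.X), D.FXm m x = x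
  | 0, _ => rfl
  | m + 1, x => by
    change D.FX (D.FXm m x) = x
    rw [FXm_apply m x]
    exact ConcreteCategory.congr_hom D.base x

theorem FXm_le (m : ℕ) (U : D.X.Opens) : U ≤ D.FXm m ⁻¹ᵁ U := fun x hx ↦ by
  change D.FXm m x ∈ U
  rw [D.FXm_apply]; exact hx

theorem FXm_appLE : ∀ (m : ℕ) (U : D.X.Opens) (a : Γ(D.X, U)),
    (D.FXm m).appLE U U (D.FXm_le m U) a = a ^ qn m
  | 0, U, a => by rw [pow_zero, pow_one]; exact appLE_id U a _
  | m + 1, U, a => by
    rw [← appLE_comp_apply (show D.FXm m ≫ D.FX = D.FXm (m + 1) from rfl) (D.le U) (D.FXm_le m U),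
      show D.FX.appLE U U (D.le U) a = a ^ Nat.card k₀ from D.app U a, map_pow, FXm_appLE m U a,
      ← pow_mul, pow_succ]

theorem π_Fm (m : ℕ) (x : D.Xb.obj.left) : D.π (sm (D.Fm m) x) = D.π x := by
  have h := ConcreteCategory.congr_hom (congrArg (fun φ : D.Xb.obj.left ⟶ D.X ↦ φ.base) (D.comm_iter m)) x
  simp only [Scheme.Hom.comp_base, TopCat.comp_app] at h
  exact h.trans (D.FXm_apply m _)

theorem chart_le_iter (m : ℕ) (U : D.X.Opens) : D.chart U ≤ sm (D.Fm m) ⁻¹ᵁ D.chart U := fun x hx ↦ by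
  change D.π (sm (D.Fm m) x) ∈ U
  rw [D.π_Fm]; exact hx

theorem Fm_appLE_π (m : ℕ) (U : D.X.Opens) (a : Γ(D.X, U)) :
    (sm (D.Fm m)).appLE (D.chart U) (D.chart U) (D.chart_le_iter m U) (D.π.appLE U (D.chart U) le_rfl a) =
      (D.π.appLE U (D.chart U) le_rfl a) ^ qn m := by
  rw [appLE_comp_apply (D.comm_iter m) le_rfl (D.chart_le_iter m U) (fun x hx ↦ D.FXm_le m U hx),
    ← appLE_comp_apply (rfl : D.π ≫ D.FXm m = _) (D.FXm_le m U) le_rfl, D.FXm_appLE, map_pow]

theorem Fm_appLE_scalar (m : ℕ) (U : D.X.Opens) (c : k) :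
    (sm (D.Fm m)).appLE (D.chart U) (D.chart U) (D.chart_le_iter m U)
      (baseToSections D.Xb.obj.hom (D.chart U) c) = baseToSections D.Xb.obj.hom (D.chart U) c := by
  simp only [baseToSections, CommRingCat.hom_comp, RingHom.comp_apply]
  exact appLE_comp_apply (Over.w (D.Fm m).hom) (U := ⊤) (V := D.chart U) (by simp) (D.chart_le_iter m U)
    (by simp) _

section

variable {D} (m : ℕ) {P : Var k} {p q : P ⟶ D.Xb} {j d : D.Xb ⟶ P}

/-- The intersection of the graph with the diagonal, seen in `X̄`. -/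
def fixSet (j d : D.Xb ⟶ P) : Set D.Xb.obj.left :=
  (sm d) ⁻¹' closure ({sm j (genericPoint D.Xb.obj.left)} : Set P.obj.left)

variable (hjp : j ≫ p = 𝟙 D.Xb) (hjq : j ≫ q = D.Fm m) (hdp : d ≫ p = 𝟙 D.Xb) (hdq : d ≫ q = 𝟙 D.Xb)

include hjp in
theorem closure_genericPoint_section :
    closure ({sm j (genericPoint D.Xb.obj.left)} : Set P.obj.left) = Set.range (sm j) := by
  haveI := isClosedImmersion_section hjp
  rw [← Set.image_singleton, (sm j).isClosedEmbedding.isClosedMap.closure_image_eq_of_continuous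
    (sm j).continuous, genericPoint_closure, Set.image_univ]

variable [IsAlgClosed k] [Finite k₀]

include hjp hjq hdp hdq in
theorem isClosed_and_fixed_of_mem (hm : 0 < m) {z : D.Xb.obj.left} (hz : z ∈ fixSet j d) :
    IsClosed ({z} : Set D.Xb.obj.left) ∧ sm (D.Fm m) z = z := by
  rw [fixSet, Set.mem_preimage, closure_genericPoint_section hjp] at hz
  obtain ⟨w, hw⟩ := hz
  obtain ⟨ev, hev₁, hev₂⟩ := Scheme.Pullback.exists_preimage_pullback (f := sm d) (g := sm j) z w hw.symm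
  let E := Limits.pullback (sm d) (sm j)
  let u : Spec (E.residueField ev) ⟶ E := E.fromSpecResidueField ev
  let v : Spec (E.residueField ev) ⟶ D.Xb.obj.left := u ≫ Limits.pullback.fst (sm d) (sm j)
  let v' : Spec (E.residueField ev) ⟶ D.Xb.obj.left := u ≫ Limits.pullback.snd (sm d) (sm j)
  have hvw : v ≫ sm d = v' ≫ sm j := by simp only [v, v', Category.assoc, Limits.pullback.condition]
  have hsm : ∀ {A B C : Var k} {f : A ⟶ B} {g : B ⟶ C} {h : A ⟶ C}, f ≫ g = h → sm f ≫ sm g = sm h := by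
    rintro A B C f g h rfl; rfl
  have hvv : v = v' := by
    have h := congrArg (· ≫ sm p) hvw
    simp only [Category.assoc, hsm hdp, hsm hjp] at h
    exact h
  have hvφ : v ≫ sm (D.Fm m) = v := by
    have h := congrArg (· ≫ sm q) hvw
    simp only [Category.assoc, hsm hdq, hsm hjq, ← hvv] at h
    exact h.symm.trans (Category.comp_id v)
  let pt : Spec (E.residueField ev) := IsLocalRing.closedPoint _
  have hvz : v pt = z := by
    change Limits.pullback.fst (sm d) (sm j) (u pt) = z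
    rw [show u pt = ev from Scheme.fromSpecResidueField_apply _ _, hev₁]
  have hfix : sm (D.Fm m) z = z := by
    rw [← hvz]
    exact ConcreteCategory.congr_hom (congrArg (fun φ : Spec (E.residueField ev) ⟶ _ ↦ φ.base) hvφ) pt
  refine ⟨?_, hfix⟩
  subst hvz
  obtain ⟨U, hU, hx⟩ := D.exists_chart (v pt)
  letI := resAlg D.Xb.obj.hom (v pt)
  have hle1 : v ⁻¹ᵁ D.chart U ≤ (v ≫ sm (D.Fm m)) ⁻¹ᵁ D.chart U := by rw [hvφ]
  have halg : ∀ a, IsAlgebraic k
      (D.Xb.obj.left.evaluation (D.chart U) (v pt) hx (D.π.appLE U (D.chart U) le_rfl a)) := by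
    intro a
    set A := D.π.appLE U (D.chart U) le_rfl a
    set ξ := D.Xb.obj.left.evaluation (D.chart U) (v pt) hx A with hξ
    have h1 : v.residueFieldMap pt (ξ ^ qn m) = v.residueFieldMap pt ξ := by
      rw [hξ, ← map_pow (D.Xb.obj.left.evaluation (D.chart U) (v pt) hx).hom]
      rw [show A ^ qn m = (sm (D.Fm m)).appLE (D.chart U) (D.chart U) (D.chart_le_iter m U) A from
        (D.Fm_appLE_π m U a).symm,
        residueFieldMap_evaluation v (le_refl (v ⁻¹ᵁ D.chart U)) pt hx,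
        residueFieldMap_evaluation v (le_refl (v ⁻¹ᵁ D.chart U)) pt hx,
        appLE_comp_apply hvφ (D.chart_le_iter m U) le_rfl le_rfl]
    have h2 : ξ ^ qn m = ξ := (v.residueFieldMap pt).hom.injective h1
    refine ⟨Polynomial.X ^ qn m - Polynomial.X, ?_, by simp [h2]⟩
    exact FiniteField.X_pow_card_sub_X_ne_zero k (Nat.one_lt_pow hm.ne' Finite.one_lt_card)
  have htop := D.subfield_eq_top hU (v pt) hx
    (algebraicClosure k (D.Xb.obj.left.residueField (v pt))).toSubfield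
    (fun a ↦ mem_algebraicClosure_iff.2 (halg a))
    (fun c ↦ (algebraicClosure k (D.Xb.obj.left.residueField (v pt))).algebraMap_mem c)
  haveI : Algebra.IsAlgebraic k (D.Xb.obj.left.residueField (v pt)) :=
    ⟨fun z ↦ mem_algebraicClosure_iff.1 (htop.ge trivial)⟩
  rw [← sdim_eq_zero_iff_isClosed D.Xb.obj.hom]
  have := trdeg_residueField D.Xb.obj.hom (v pt)
  rw [trdeg_eq_zero] at this
  exact_mod_cast this.symm

include hjp hjq hdp hdq in
theorem mem_fixSet_of_isClosed (hP : IsProd p q) {z : D.Xb.obj.left}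
    (hz : IsClosed ({z} : Set D.Xb.obj.left)) (hfix : sm (D.Fm m) z = z) : z ∈ fixSet j d := by
  rw [fixSet, Set.mem_preimage, closure_genericPoint_section hjp]
  let t := pointOfClosedPoint D.Xb.obj.hom z hz
  have ht : t ≫ D.Xb.obj.hom = 𝟙 _ := pointOfClosedPoint_comp _ _ _
  have hsm : ∀ {A B C : Var k} {f : A ⟶ B} {g : B ⟶ C} {h : A ⟶ C}, f ≫ g = h → sm f ≫ sm g = sm h := by
    rintro A B C f g h rfl; rfl
  have htφ : t ≫ sm (D.Fm m) = t := by
    refine ext_of_apply_closedPoint_eq D.Xb.obj.hom ?_ ht ?_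
    · rw [Category.assoc, Over.w, ht]
    · change sm (D.Fm m) (t _) = t _
      rw [pointOfClosedPoint_apply, hfix]
  have he : t ≫ sm d = t ≫ sm j := by
    apply IsPullback.hom_ext hP
    · rw [Category.assoc, Category.assoc, hsm hdp, hsm hjp]
    · rw [Category.assoc, Category.assoc, hsm hdq, hsm hjq, htφ]
      exact Category.comp_id t
  refine ⟨z, ?_⟩
  have h := ConcreteCategory.congr_hom (congrArg (fun φ : Spec (CommRingCat.of k) ⟶ _ ↦ φ.base) he)
    (IsLocalRing.closedPoint k)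
  simp only [Scheme.Hom.comp_base, TopCat.comp_app] at h
  rw [← pointOfClosedPoint_apply D.Xb.obj.hom z hz (IsLocalRing.closedPoint k)]
  exact h.symm

end

end FrobData

end Groth.Agent.WeilH13
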