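import Groth.Agent.Lib.WeilH13.Frob
import Mathlib.FieldTheory.RatFunc.AsPolynomial
import Mathlib.Data.ZMod.Basic

/-!
The functional equation of the cohomological zeta function.
-/

set_option backward.isDefEq.respectTransparency.types false
universe u v w

open AlgebraicGeometry CategoryTheory Polynomial

namespace Groth.Agent.WeilH13

open WeilCoh

theorem prod_range_two_mul_add_one {M : Type*} [CommMonoid M] (g : ℕ → M) (n : ℕ) :
    ∏ i ∈ Finset.range (2 * n + 1), g i =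
      (∏ i ∈ Finset.range (n + 1), g (2 * i)) * ∏ i ∈ Finset.range n, g (2 * i + 1) := by
  induction n with
  | zero => simp
  | succ n ih =>
    rw [show 2 * (n + 1) + 1 = 2 * n + 1 + 1 + 1 by ring, Finset.prod_range_succ g, Finset.prod_range_succ g,
      ih, Finset.prod_range_succ (fun i ↦ g (2 * i)) (n + 1), Finset.prod_range_succ (fun i ↦ g (2 * i + 1)) n]
    rw [show 2 * (n + 1) = 2 * n + 1 + 1 by ring]
    simp only [mul_assoc, mul_comm, mul_left_comm]

theorem sum_range_two_mul_add_one {M : Type*} [AddCommMonoid M] (g : ℕ → M) (n : ℕ) :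
    ∑ i ∈ Finset.range (2 * n + 1), g i =
      (∑ i ∈ Finset.range (n + 1), g (2 * i)) + ∑ i ∈ Finset.range n, g (2 * i + 1) :=
  congrArg Multiplicative.toAdd (prod_range_two_mul_add_one (fun i ↦ Multiplicative.ofAdd (g i)) n)

section FieldId

variable {K : Type u} [Field K] {L : Type v} [Field L] [Algebra K L]

/-- Evaluation of the reverse of a monic polynomial at an inverse. -/
theorem eval_reverse_inv (p : K[X]) {y : L} (hy : y ≠ 0) :
    aeval y⁻¹ p.reverse * y ^ p.natDegree = aeval y p := by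
  letI := invertibleOfNonzero hy
  simpa [aeval_def] using eval₂_reverse_mul_pow (algebraMap K L) y p

variable (n : ℕ) (B : ℕ → ℕ) (d : ℕ → K) (P : ℕ → K[X]) (Q : K) (x : L)

/-- The algebra behind the functional equation. -/
theorem funEq_identity (hQ : Q ≠ 0) (hx : x ≠ 0)
    (h : ∀ i ≤ 2 * n, aeval (x⁻¹ * algebraMap K L Q⁻¹) (P i) * (algebraMap K L Q * x) ^ B i * (-1) ^ B i =
      algebraMap K L (d i) * aeval x (P (2 * n - i))) :
    aeval (x⁻¹ * algebraMap K L Q⁻¹) (∏ i ∈ Finset.range n, P (2 * i + 1)) /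
        aeval (x⁻¹ * algebraMap K L Q⁻¹) (∏ i ∈ Finset.range (n + 1), P (2 * i)) =
      algebraMap K L (((∏ i ∈ Finset.range n, d (2 * i + 1)) / ∏ i ∈ Finset.range (n + 1), d (2 * i)) *
          (-Q) ^ ((∑ i ∈ Finset.range (n + 1), (B (2 * i) : ℤ)) - ∑ i ∈ Finset.range n, (B (2 * i + 1) : ℤ))) *
        x ^ ((∑ i ∈ Finset.range (n + 1), (B (2 * i) : ℤ)) - ∑ i ∈ Finset.range n, (B (2 * i + 1) : ℤ)) *
        (aeval x (∏ i ∈ Finset.range n, P (2 * i + 1)) / aeval x (∏ i ∈ Finset.range (n + 1), P (2 * i))) := by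
  set y := algebraMap K L (-Q) * x
  have hy : y ≠ 0 := mul_ne_zero (by simpa using hQ) hx
  have h' : ∀ i ≤ 2 * n, aeval (x⁻¹ * algebraMap K L Q⁻¹) (P i) =
      algebraMap K L (d i) * aeval x (P (2 * n - i)) / y ^ B i := by
    intro i hi
    rw [eq_div_iff (pow_ne_zero _ hy), ← h i hi, mul_assoc, ← mul_pow]
    congr 2
    simp only [y, map_neg]; ring
  have hO : aeval (x⁻¹ * algebraMap K L Q⁻¹) (∏ i ∈ Finset.range n, P (2 * i + 1)) =
      algebraMap K L (∏ i ∈ Finset.range n, d (2 * i + 1)) * aeval x (∏ i ∈ Finset.range n, P (2 * i + 1)) /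
        y ^ (∑ i ∈ Finset.range n, (B (2 * i + 1))) := by
    rw [map_prod, Finset.prod_congr rfl fun i hi ↦ h' (2 * i + 1) (by have := Finset.mem_range.1 hi; omega),
      Finset.prod_div_distrib, Finset.prod_mul_distrib, Finset.prod_pow_eq_pow_sum, map_prod, map_prod,
      ← Finset.prod_range_reflect (fun i ↦ aeval x (P (2 * i + 1))) n]
    refine congrArg₂ (· / ·) (congrArg₂ (· * ·) rfl (Finset.prod_congr rfl fun i hi ↦ ?_)) rfl
    have := Finset.mem_range.1 hi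
    congr 2; omega
  have hE : aeval (x⁻¹ * algebraMap K L Q⁻¹) (∏ i ∈ Finset.range (n + 1), P (2 * i)) =
      algebraMap K L (∏ i ∈ Finset.range (n + 1), d (2 * i)) * aeval x (∏ i ∈ Finset.range (n + 1), P (2 * i)) /
        y ^ (∑ i ∈ Finset.range (n + 1), (B (2 * i))) := by
    rw [map_prod, Finset.prod_congr rfl fun i hi ↦ h' (2 * i) (by have := Finset.mem_range.1 hi; omega),
      Finset.prod_div_distrib, Finset.prod_mul_distrib, Finset.prod_pow_eq_pow_sum, map_prod, map_prod,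
      ← Finset.prod_range_reflect (fun i ↦ aeval x (P (2 * i))) (n + 1)]
    refine congrArg₂ (· / ·) (congrArg₂ (· * ·) rfl (Finset.prod_congr rfl fun i hi ↦ ?_)) rfl
    have := Finset.mem_range.1 hi
    congr 2; omega
  rw [hO, hE, div_div_div_eq, ← Nat.cast_sum, ← Nat.cast_sum, zpow_sub₀ (neg_ne_zero.2 hQ), zpow_sub₀ hx,
    zpow_natCast, zpow_natCast, zpow_natCast, zpow_natCast]
  simp only [y, div_eq_mul_inv, map_mul, map_inv₀, map_pow, mul_pow, mul_inv, inv_pow]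
  ring

end FieldId

namespace FrobData

variable {k₀ k : Type u} [Field k₀] [Finite k₀] [Field k] [IsAlgClosed k] [Algebra k₀ k] (D : FrobData k₀ k)
  {K : Type v} [Field K] [CharZero K] (T : TheoryOn.{u, v, w} k (IsVar k) K)

local notation "nn" => dim D.Xb.obj.left
set_option quotPrecheck false in
local notation "BB" i:max => Module.finrank K ↥(T.gr D.Xb ((i : ℕ) : ℤ))
local notation "qq" => (Nat.card k₀ : K)

omit [Finite k₀] [CharZero K] in
theorem finrank_compl {i : ℕ} (hi : i ≤ 2 * nn) : BB (2 * nn - i) = BB i := by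
  haveI := T.duality D.Xb ((2 * nn - i : ℕ) : ℤ) (i : ℤ) (by omega)
  exact Module.finrank_of_isPerfPair
    (pairing K (T.gr D.Xb ((2 * nn - i : ℕ) : ℤ)) (T.gr D.Xb (i : ℤ)) (T.tr D.Xb))

omit [Finite k₀] in
theorem even_middle (hn : Odd nn) : Even (BB nn) := by
  haveI := T.duality D.Xb (nn : ℤ) (nn : ℤ) (by omega)
  refine even_finrank (pairing K (T.gr D.Xb (nn : ℤ)) (T.gr D.Xb (nn : ℤ)) (T.tr D.Xb)) fun a b ↦ ?_
  have h := gradedComm_smul T a.2 b.2
  rw [Int.natAbs_natCast, (hn.mul hn).neg_one_pow, neg_one_mul] at h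
  exact h

omit [Finite k₀] in
theorem two_dvd : (2 : ℤ) ∣ (nn : ℤ) * ∑ i ∈ Finset.range (2 * nn + 1), (-1 : ℤ) ^ i * (BB i : ℤ) := by
  rcases Nat.even_or_odd nn with hn | hn
  · exact dvd_mul_of_dvd_left (Int.natCast_dvd_natCast.2 (even_iff_two_dvd.1 hn)) _
  · refine dvd_mul_of_dvd_right ((ZMod.intCast_zmod_eq_zero_iff_dvd _ 2).1 ?_) _
    push_cast
    simp only [show (-1 : ZMod 2) = 1 from rfl, one_pow, one_mul]
    refine Finset.sum_involution (fun i _ ↦ 2 * nn - i) (fun i hi ↦ ?_) (fun i hi hne h ↦ hne ?_)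
      (fun i hi ↦ Finset.mem_range.2 (by omega)) fun i hi ↦ by
        have := Finset.mem_range.1 hi; omega
    · have := Finset.mem_range.1 hi
      rw [D.finrank_compl T (i := i) (by omega), ← two_mul]
      rw [show (2 : ZMod 2) = 0 from rfl, zero_mul]
    · have := Finset.mem_range.1 hi
      rw [show i = nn by omega, (ZMod.natCast_eq_zero_iff_even).2 (D.even_middle T hn)]

theorem det_mul_det' {i : ℕ} (hi : i ≤ 2 * nn) :
    LinearMap.det (T.pullDeg D.F ((2 * nn - i : ℕ) : ℤ)) * LinearMap.det (T.pullDeg D.F (i : ℤ)) =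
      (qq ^ nn) ^ BB i := by
  rw [← pow_mul, ← D.det_mul_det_F T]
  rw [show (((2 * nn - i : ℕ) : ℕ) : ℤ) = 2 * (nn : ℤ) - i by omega]

theorem P_inv {i : ℕ} (hi : i ≤ 2 * nn) :
    aeval ((RatFunc.X : RatFunc K)⁻¹ * algebraMap K (RatFunc K) (qq ^ nn)⁻¹)
        (LinearMap.charpoly (T.pullDeg D.F (i : ℤ))).reverse *
      (algebraMap K (RatFunc K) (qq ^ nn) * RatFunc.X) ^ BB i * (-1) ^ BB i =
    algebraMap K (RatFunc K) (LinearMap.det (T.pullDeg D.F (i : ℤ))) *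
      aeval (RatFunc.X : RatFunc K) (LinearMap.charpoly (T.pullDeg D.F ((2 * nn - i : ℕ) : ℤ))).reverse := by
  have h := congrArg (aeval (RatFunc.X : RatFunc K)) (D.det_smul_reverse_charpoly_F T (i : ℤ))
  rw [map_smul, map_mul, map_pow, map_neg, map_one, aeval_comp, map_mul, aeval_C, aeval_X,
    Algebra.smul_def] at h
  rw [show (((2 * nn - i : ℕ) : ℕ) : ℤ) = 2 * (nn : ℤ) - i by omega, h]
  have hy : (algebraMap K (RatFunc K) (qq ^ nn) * RatFunc.X) ≠ 0 :=
    mul_ne_zero ((_root_.map_ne_zero _).2 (pow_ne_zero _ ((Nat.cast_ne_zero (R := K)).2 (Nat.card_pos (α := k₀)).ne'))) RatFunc.X_ne_zero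
  rw [show (RatFunc.X : RatFunc K)⁻¹ * algebraMap K (RatFunc K) (qq ^ nn)⁻¹ =
    (algebraMap K (RatFunc K) (qq ^ nn) * RatFunc.X)⁻¹ by rw [mul_inv, map_inv₀, mul_comm],
    ← LinearMap.charpoly_natDegree (T.pullDeg D.F (i : ℤ)), eval_reverse_inv _ hy, mul_comm]

theorem functional_equation :
    ∃ ε : K, (ε = 1 ∨ ε = -1) ∧
      Polynomial.aeval ((RatFunc.X : RatFunc K)⁻¹ * RatFunc.C (qq ^ nn)⁻¹)
          (∏ i ∈ Finset.range nn, (LinearMap.charpoly (T.pullDeg D.F ((2 * i + 1 : ℕ) : ℤ))).reverse) /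
        Polynomial.aeval ((RatFunc.X : RatFunc K)⁻¹ * RatFunc.C (qq ^ nn)⁻¹)
          (∏ i ∈ Finset.range (nn + 1), (LinearMap.charpoly (T.pullDeg D.F ((2 * i : ℕ) : ℤ))).reverse) =
      RatFunc.C ε * RatFunc.C qq ^ ((nn : ℤ) * (∑ i ∈ Finset.range (2 * nn + 1), (-1 : ℤ) ^ i * (BB i : ℤ)) / 2) *
        (RatFunc.X : RatFunc K) ^ (∑ i ∈ Finset.range (2 * nn + 1), (-1 : ℤ) ^ i * (BB i : ℤ)) *
        (algebraMap (Polynomial K) (RatFunc K)
          (∏ i ∈ Finset.range nn, (LinearMap.charpoly (T.pullDeg D.F ((2 * i + 1 : ℕ) : ℤ))).reverse) /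
         algebraMap (Polynomial K) (RatFunc K)
          (∏ i ∈ Finset.range (nn + 1), (LinearMap.charpoly (T.pullDeg D.F ((2 * i : ℕ) : ℤ))).reverse)) := by
  have hq : qq ≠ 0 := Nat.cast_ne_zero.2 (Nat.card_pos (α := k₀)).ne'
  set E : ℤ := ∑ i ∈ Finset.range (2 * nn + 1), (-1 : ℤ) ^ i * (BB i : ℤ) with hEdef
  let d : ℕ → K := fun i ↦ LinearMap.det (T.pullDeg D.F (i : ℤ))
  have hsplit : E = (∑ i ∈ Finset.range (nn + 1), (BB (2 * i) : ℤ)) - ∑ i ∈ Finset.range nn, (BB (2 * i + 1) : ℤ) := by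
    rw [hEdef, sum_range_two_mul_add_one]
    simp [pow_succ, pow_mul, sub_eq_add_neg]
  have hdd : ∀ i ≤ 2 * nn, d (2 * nn - i) * d i = (qq ^ nn) ^ BB i := fun i hi ↦ D.det_mul_det' T hi
  have hO : (∏ i ∈ Finset.range nn, d (2 * i + 1)) ^ 2 = (qq ^ nn) ^ ∑ i ∈ Finset.range nn, BB (2 * i + 1) := by
    rw [← Finset.prod_pow_eq_pow_sum, sq]
    nth_rw 1 [← Finset.prod_range_reflect]
    rw [← Finset.prod_mul_distrib]
    refine Finset.prod_congr rfl fun i hi ↦ ?_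
    have := Finset.mem_range.1 hi
    rw [show 2 * (nn - 1 - i) + 1 = 2 * nn - (2 * i + 1) by omega]
    exact hdd _ (by omega)
  have hE : (∏ i ∈ Finset.range (nn + 1), d (2 * i)) ^ 2 = (qq ^ nn) ^ ∑ i ∈ Finset.range (nn + 1), BB (2 * i) := by
    rw [← Finset.prod_pow_eq_pow_sum, sq]
    nth_rw 1 [← Finset.prod_range_reflect]
    rw [← Finset.prod_mul_distrib]
    refine Finset.prod_congr rfl fun i hi ↦ ?_
    have := Finset.mem_range.1 hi
    rw [show 2 * (nn + 1 - 1 - i) = 2 * nn - 2 * i by omega]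
    exact hdd _ (by omega)
  set c : K := ((∏ i ∈ Finset.range nn, d (2 * i + 1)) / ∏ i ∈ Finset.range (nn + 1), d (2 * i)) *
    (-(qq ^ nn)) ^ E with hc
  refine ⟨c / qq ^ ((nn : ℤ) * E / 2), ?_, ?_⟩
  · refine sq_eq_one_iff.1 ?_
    rw [div_pow, hc, mul_pow, div_pow, hO, hE]
    have h2 : (qq ^ ((nn : ℤ) * E / 2)) ^ 2 = (qq ^ nn) ^ E := by
      rw [← zpow_natCast (qq ^ ((nn : ℤ) * E / 2)), ← zpow_mul, ← zpow_natCast qq nn, ← zpow_mul]
      congr 1
      exact Int.ediv_mul_cancel (D.two_dvd T)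
    have h3 : ((-(qq ^ nn)) ^ E) ^ 2 = (qq ^ nn) ^ E * (qq ^ nn) ^ E := by
      rw [sq, ← mul_zpow, neg_mul_neg, mul_zpow]
    rw [h2, h3, hsplit, ← Nat.cast_sum, ← Nat.cast_sum, zpow_sub₀ (pow_ne_zero _ hq), zpow_natCast, zpow_natCast]
    field_simp
  · have hid := funEq_identity (L := RatFunc K) nn (fun i ↦ BB i) d
      (fun i ↦ (LinearMap.charpoly (T.pullDeg D.F (i : ℤ))).reverse) (qq ^ nn) RatFunc.X
      (pow_ne_zero _ hq) RatFunc.X_ne_zero fun i hi ↦ D.P_inv T hi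
    have hX : ∀ p : K[X], aeval (RatFunc.X : RatFunc K) p = algebraMap K[X] (RatFunc K) p := fun p ↦ by
      rw [← RatFunc.algebraMap_X, aeval_algebraMap_apply, aeval_X_left_apply]
    rw [← hsplit, hX, hX, ← hc] at hid
    rw [← RatFunc.algebraMap_eq_C, ← map_zpow₀, ← map_mul, div_mul_cancel₀ _ (zpow_ne_zero _ hq)]
    exact hid

end FrobData

end Groth.Agent.WeilH13
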