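import Groth.Agent.Lib.WeilH13.FixPts

/-!
The intersection number of the graph of an iterate of the Frobenius with the diagonal counts fixed
points: the intersection is reduced.
-/

set_option backward.isDefEq.respectTransparency.types false
universe u v w

open AlgebraicGeometry CategoryTheory

namespace Groth.Agent.WeilH13

open WeilCoh Groth.Agent.VarDim

theorem natCast_pred_pow_unit {R : Type*} [CommRing R] [IsLocalRing R] {I : Ideal R} {a : R} {Q : ℕ}
    (hQ : 1 < Q) (ha : a ∈ IsLocalRing.maximalIdeal R) (h : a ^ Q - a ∈ I) : a ∈ I := by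
  have hu : IsUnit (1 - a ^ (Q - 1)) := by
    refine IsLocalRing.isUnit_one_sub_self_of_mem_nonunits _ ?_
    exact (IsLocalRing.mem_maximalIdeal _).1 (Ideal.pow_mem_of_mem _ ha _ (by omega))
  refine (I.mul_unit_mem_iff_mem hu).1 ?_
  rw [mul_sub, mul_one, ← pow_succ', Nat.sub_add_cancel hQ.le, ← neg_sub]
  exact I.neg_mem h

namespace FrobData

variable {k₀ k : Type u} [Field k₀] [Field k] [Algebra k₀ k] (D : FrobData k₀ k)

local notation "qn" m:max => Nat.card k₀ ^ m

variable {D} (m : ℕ) {P : Var k} {p q : P ⟶ D.Xb} {j d : D.Xb ⟶ P}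
variable [IsAlgClosed k] [Finite k₀]
variable (hjp : j ≫ p = 𝟙 D.Xb) (hjq : j ≫ q = D.Fm m) (hdp : d ≫ p = 𝟙 D.Xb) (hdq : d ≫ q = 𝟙 D.Xb)

include hjp hjq hdp hdq in
theorem preimMult_eq_one (hm : 0 < m) {z : D.Xb.obj.left} (hz : z ∈ fixSet j d) :
    preimMult (sm d) (sm j (genericPoint D.Xb.obj.left)) z hz = 1 := by
  haveI := isClosedImmersion_section hjp
  obtain ⟨hzc, -⟩ := isClosed_and_fixed_of_mem m hjp hjq hdp hdq hm hz
  rw [preimMult]
  set η := genericPoint D.Xb.obj.left
  set hsp : sm j η ⤳ sm d z := specializes_iff_mem_closure.mpr hz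
  set I := Ideal.map ((sm d).stalkMap z).hom (RingHom.ker (Cyc.specMap (sm d z) (sm j η) hsp)) with hI
  have hIle : I ≤ IsLocalRing.maximalIdeal _ := by
    rw [hI]
    refine le_trans (Ideal.map_mono (IsLocalRing.le_maximalIdeal (RingHom.ker_ne_top _))) ?_
    exact ((IsLocalRing.local_hom_TFAE ((sm d).stalkMap z).hom).out 0 2).1 ((sm d).toLRSHom.prop z)
  obtain ⟨U, hU, hx⟩ := D.exists_chart z
  have hV := D.isAffineOpen_chart hU
  obtain ⟨p', e, hprime, hchar, hcard⟩ := exists_prime (k₀ := k₀) (k := k)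
  let φ := D.Fm m
  let ρ : Γ(D.Xb.obj.left, D.chart U) →+* D.Xb.obj.left.presheaf.stalk z :=
    (D.Xb.obj.left.presheaf.germ (D.chart U) z hx).hom
  let ψ : Γ(D.Xb.obj.left, D.chart U) →+* Γ(D.Xb.obj.left, D.chart U) :=
    ((sm φ).appLE (D.chart U) (D.chart U) (D.chart_le_iter m U)).hom
  -- elements `ψ a - a` lie in the ideal
  have key : ∀ a, ρ (ψ a) - ρ a ∈ I := by
    intro a
    let W : P.obj.left.Opens := sm p ⁻¹ᵁ D.chart U ⊓ sm q ⁻¹ᵁ D.chart U
    have hWp : W ≤ sm p ⁻¹ᵁ D.chart U := inf_le_left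
    have hWq : W ≤ sm q ⁻¹ᵁ D.chart U := inf_le_right
    have hjW : D.chart U ≤ sm j ⁻¹ᵁ W := fun x hx ↦ ⟨by
        change sm p (sm j x) ∈ D.chart U
        rw [sm_comp_apply hjp]; exact hx, by
        change sm q (sm j x) ∈ D.chart U
        rw [sm_comp_apply hjq]; exact D.chart_le_iter m U hx⟩
    have hdW : D.chart U ≤ sm d ⁻¹ᵁ W := fun x hx ↦ ⟨by
        change sm p (sm d x) ∈ D.chart U
        rw [sm_comp_apply hdp]; exact hx, by
        change sm q (sm d x) ∈ D.chart U
        rw [sm_comp_apply hdq]; exact hx⟩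
    let b := (sm p).appLE (D.chart U) W hWp (ψ a) - (sm q).appLE (D.chart U) W hWq a
    have hjb : (sm j).appLE W (D.chart U) hjW b = 0 := by
      simp only [b, map_sub]
      rw [appLE_comp_apply (congrArg sm hjp : sm j ≫ sm p = sm (𝟙 D.Xb)) hWp hjW le_rfl,
        appLE_comp_apply (congrArg sm hjq : sm j ≫ sm q = sm (D.Fm m)) hWq hjW (D.chart_le_iter m U)]
      exact (congrArg (· - ψ a) (appLE_id (D.chart U) (ψ a) le_rfl)).trans (sub_self _)
    have hdb : (sm d).appLE W (D.chart U) hdW b = ψ a - a := by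
      simp only [b, map_sub]
      rw [appLE_comp_apply (congrArg sm hdp : sm d ≫ sm p = sm (𝟙 D.Xb)) hWp hdW le_rfl,
        appLE_comp_apply (congrArg sm hdq : sm d ≫ sm q = sm (𝟙 D.Xb)) hWq hdW le_rfl]
      exact congrArg₂ (· - ·) (appLE_id (D.chart U) (ψ a) le_rfl) (appLE_id (D.chart U) a le_rfl)
    have hker : P.obj.left.presheaf.germ W (sm d z) (hdW hx) b ∈
        RingHom.ker (Cyc.specMap (sm d z) (sm j η) hsp) := by
      rw [RingHom.mem_ker, Cyc.specMap, CommRingCat.hom_comp, RingHom.comp_apply]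
      have hηW : sm j η ∈ W := hsp.mem_open W.isOpen (hdW hx)
      refine (congrArg (P.obj.left.residue (sm j η)).hom
        (ConcreteCategory.congr_hom (P.obj.left.presheaf.germ_stalkSpecializes (hdW hx) hsp) b)).trans ?_
      refine ((sm j).residueFieldMap η).hom.injective ?_
      have hηV : η ∈ D.chart U := (genericPoint_specializes z).mem_open (D.chart U).isOpen hx
      refine (residueFieldMap_evaluation (sm j) hjW η hηV b).trans ?_
      rw [hjb, map_zero, map_zero]
    have := Ideal.mem_map_of_mem ((sm d).stalkMap z).hom hker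
    rw [← hI] at this
    convert this using 1
    rw [← map_sub, ← hdb]
    change (D.Xb.obj.left.presheaf.germ (D.chart U) z hx).hom _ = _
    simp only [Scheme.Hom.appLE, ConcreteCategory.comp_apply]
    refine (TopCat.Presheaf.germ_res_apply D.Xb.obj.left.presheaf _ z hx _).trans ?_
    exact (Scheme.Hom.germ_stalkMap_apply (sm d) W z (hdW hx) b).symm
  letI := resAlg D.Xb.obj.hom z
  haveI : Algebra.IsAlgebraic k (D.Xb.obj.left.residueField z) := by
    refine trdeg_eq_zero_iff.1 ?_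
    rw [trdeg_residueField, (sdim_eq_zero_iff_isClosed _ z).2 hzc, Nat.cast_zero]
  have hbij := IsAlgClosed.algebraMap_bijective_of_isIntegral (k := k) (K := D.Xb.obj.left.residueField z)
  let ev := (D.Xb.obj.left.evaluation (D.chart U) z hx).hom
  let base := baseToSections D.Xb.obj.hom (D.chart U)
  have hevbase : ∀ c, ev (base c) = algebraMap k _ c :=
    fun c ↦ RingHom.congr_fun (evaluation_comp_baseToSections D.Xb.obj.hom z hx) c
  have hρmem : ∀ a, ρ a ∈ IsLocalRing.maximalIdeal _ ↔ ev a = 0 := fun a ↦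
    (IsLocalRing.residue_eq_zero_iff _).symm
  let S : Subring Γ(D.Xb.obj.left, D.chart U) :=
  { carrier := {b | ∃ c : k, ρ (b - base c) ∈ I}
    mul_mem' := by
      rintro b b' ⟨c, hc⟩ ⟨c', hc'⟩
      refine ⟨c * c', ?_⟩
      have e : b * b' - base (c * c') = (b - base c) * b' + base c * (b' - base c') := by
        rw [map_mul]; ring
      rw [e, map_add, map_mul, map_mul]
      exact I.add_mem (I.mul_mem_right _ hc) (I.mul_mem_left _ hc')
    one_mem' := ⟨1, by simp⟩
    add_mem' := by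
      rintro b b' ⟨c, hc⟩ ⟨c', hc'⟩
      refine ⟨c + c', ?_⟩
      have e : b + b' - base (c + c') = (b - base c) + (b' - base c') := by rw [map_add]; ring
      rw [e, map_add]; exact I.add_mem hc hc'
    zero_mem' := ⟨0, by simp⟩
    neg_mem' := by
      rintro b ⟨c, hc⟩
      refine ⟨-c, ?_⟩
      have e : -b - base (-c) = -(b - base c) := by rw [map_neg]; ring
      rw [e, map_neg]; exact I.neg_mem hc }
  have hS : S = ⊤ := by
    refine top_le_iff.1 ((D.chart_generated hU).ge.trans (Subring.closure_le.2 ?_))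
    rintro _ (⟨a, rfl⟩ | ⟨c, rfl⟩)
    · set A := D.π.appLE U (D.chart U) le_rfl a
      obtain ⟨c, hc⟩ := hbij.2 (ev A)
      refine ⟨c, ?_⟩
      have hm0 : ρ (A - base c) ∈ IsLocalRing.maximalIdeal _ := by
        rw [hρmem, map_sub, hevbase, hc, sub_self]
      have hψ : ψ (A - base c) = A ^ qn m - base c := by
        rw [map_sub]
        exact congrArg₂ (· - ·) (D.Fm_appLE_π m U a) (D.Fm_appLE_scalar m U c)
      have h1 := key (A - base c)
      rw [hψ, ← map_sub] at h1
      have hcQ : c ^ qn m = c := by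
        have h2 := (hρmem _).1 (hIle h1)
        rw [map_sub, map_sub, map_sub, map_pow, hevbase, ← hc, sub_self, sub_zero, ← map_pow,
          sub_eq_zero] at h2
        exact hbij.1 h2
      haveI : Fact p'.Prime := ⟨hprime⟩
      haveI : Nontrivial Γ(D.Xb.obj.left, D.chart U) := ev.domain_nontrivial
      haveI : CharP Γ(D.Xb.obj.left, D.chart U) p' :=
        charP_of_injective_ringHom base.injective p'
      haveI : ExpChar Γ(D.Xb.obj.left, D.chart U) p' := ExpChar.prime Fact.out
      have hpow : A ^ qn m - base c = (A - base c) ^ qn m := by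
        conv_lhs => rw [← hcQ]
        rw [map_pow, hcard, ← pow_mul, sub_pow_expChar_pow]
      rw [hpow, map_sub, map_pow] at h1
      exact natCast_pred_pow_unit (Nat.one_lt_pow hm.ne' Finite.one_lt_card) hm0 h1
    · exact ⟨c, by rw [sub_self, map_zero]; exact I.zero_mem⟩
  have hmle : IsLocalRing.maximalIdeal (D.Xb.obj.left.presheaf.stalk z) ≤ I := by
    intro w hw
    letI := TopCat.Presheaf.algebra_section_stalk D.Xb.obj.left.presheaf (⟨z, hx⟩ : D.chart U)
    haveI := hV.isLocalization_stalk ⟨z, hx⟩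
    obtain ⟨⟨a, s⟩, hs⟩ := IsLocalization.surj (hV.primeIdealOf ⟨z, hx⟩).asIdeal.primeCompl w
    have hu : IsUnit (ρ (s : Γ(D.Xb.obj.left, D.chart U))) :=
      IsLocalization.map_units (D.Xb.obj.left.presheaf.stalk z) s
    have ha : ρ a ∈ IsLocalRing.maximalIdeal _ := by
      rw [show ρ a = w * ρ s from hs.symm]; exact Ideal.mul_mem_right _ _ hw
    obtain ⟨c, hc⟩ := hS.ge (show a ∈ (⊤ : Subring _) from trivial)
    have hc0 : c = 0 := by
      have h2 := (hρmem _).1 (hIle hc)
      rw [map_sub, (hρmem a).1 ha, hevbase, zero_sub, neg_eq_zero] at h2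
      exact hbij.1 (h2.trans (map_zero _).symm)
    rw [hc0, map_zero, sub_zero] at hc
    exact (I.mul_unit_mem_iff_mem hu).1 (by rw [show w * ρ s = ρ a from hs]; exact hc)
  haveI : IsSimpleModule (D.Xb.obj.left.presheaf.stalk z) (D.Xb.obj.left.presheaf.stalk z ⧸ I) := by
    rw [isSimpleModule_iff_isCoatom, le_antisymm hIle hmle]
    exact (IsLocalRing.maximalIdeal.isMaximal _).out
  rw [Module.length_eq_one]
  rfl

include hjp hjq hdp hdq in
theorem isCompPt_fixSet_iff (hm : 0 < m) (z : D.Xb.obj.left) :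
    IsCompPt (fixSet j d) z ↔ z ∈ fixSet j d :=
  ⟨And.left, fun hz ↦ ⟨hz, fun w hw hwz ↦
    (hwz.mem_closed (isClosed_and_fixed_of_mem m hjp hjq hdp hdq hm hw).1 rfl).symm⟩⟩

include hjp hjq hdp hdq in
theorem finite_fixSet (hm : 0 < m) : (fixSet j d).Finite := by
  haveI : LocallyOfFiniteType D.Xb.obj.hom := inferInstance
  haveI : IsLocallyNoetherian D.Xb.obj.left := LocallyOfFiniteType.isLocallyNoetherian D.Xb.obj.hom
  haveI : AlgebraicGeometry.IsNoetherian D.Xb.obj.left := {}
  obtain ⟨S, hSf, hSc, hSi, hSU⟩ :=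
    TopologicalSpace.NoetherianSpace.exists_finite_set_isClosed_irreducible
      (isClosed_closure.preimage (sm d).continuous : IsClosed (fixSet j d))
  rw [show fixSet j d = ⋃₀ S from hSU, Set.sUnion_eq_biUnion]
  refine hSf.biUnion fun Z hZ ↦ ?_
  obtain ⟨η, hη⟩ := QuasiSober.sober (hSi Z hZ) (hSc Z hZ)
  have hηF : η ∈ fixSet j d := hSU.ge ⟨Z, hZ, hη.mem⟩
  have hc := (isClosed_and_fixed_of_mem m hjp hjq hdp hdq hm hηF).1
  rw [← hη.def, hc.closure_eq]
  exact Set.finite_singleton η

variable {K : Type v} [Field K] (T : TheoryOn.{u, v, w} k (IsVar k) K)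

include hjp hjq hdp hdq in
theorem tr_graph_mul_diag (hP : IsProd p q) (hm : 0 < m) :
    T.tr P (T.cl P (sm j (genericPoint D.Xb.obj.left)) * T.cl P (sm d (genericPoint D.Xb.obj.left))) =
      (Nat.card (fixSet j d) : K) := by
  have hd := dim_prod T hP
  have hpull := T.cl_pull d (sm j (genericPoint D.Xb.obj.left))
    (fun w hw ↦ by
      rw [pdim_section hjp, pdim_genericPoint,
        (pdim_eq_zero_iff D.Xb w).2 (isClosed_and_fixed_of_mem m hjp hjq hdp hdq hm hw.1).1]
      omega)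
    (.inr fun w hw ↦ preimMult_eq_one m hjp hjq hdp hdq hm hw.1)
  rw [mul_comm_even T (T.cl_mem P _), tr_graph_mul T hdp, hpull]
  haveI : Finite {w : D.Xb.obj.left // IsCompPt (fixSet j d) w} :=
    ((finite_fixSet m hjp hjq hdp hdq hm).subset fun w hw ↦ hw.1).to_subtype
  letI := Fintype.ofFinite {w : D.Xb.obj.left // IsCompPt (fixSet j d) w}
  change T.tr D.Xb (∑ᶠ w : {w : D.Xb.obj.left // IsCompPt (fixSet j d) w}, _) = _
  rw [finsum_eq_sum_of_fintype, map_sum]
  rw [Finset.sum_congr rfl fun w _ ↦ show T.tr D.Xb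
      ((preimMult (sm d) (sm j (genericPoint D.Xb.obj.left)) w.1 w.2.1 : K) • T.cl D.Xb w.1) = 1 by
    rw [preimMult_eq_one m hjp hjq hdp hdq hm w.2.1, Nat.cast_one, one_smul,
      tr_cl_closedPoint T D.Xb w.1 (isClosed_and_fixed_of_mem m hjp hjq hdp hdq hm w.2.1).1]]
  rw [Finset.sum_const, nsmul_one, Finset.card_univ, ← Nat.card_eq_fintype_card]
  exact congrArg _ (Nat.card_congr (Equiv.subtypeEquivRight fun z ↦
    isCompPt_fixSet_iff m hjp hjq hdp hdq hm z))

end FrobData

end Groth.Agent.WeilH13
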