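import Groth.Agent.Lib.WeilH13.Swap
import Mathlib.LinearAlgebra.Matrix.Charpoly.LinearMap
import Mathlib.RingTheory.Coprime.Lemmas
import Mathlib.Order.Interval.Finset.Defs
import Mathlib.Data.Int.Interval

/-!
Künneth projectors from polynomials in an endomorphism.
-/

set_option backward.isDefEq.respectTransparency.types false
universe u v w

open AlgebraicGeometry CategoryTheory Polynomial

namespace Groth.Agent.WeilH13

open WeilCoh

variable {k : Type u} [Field k] {K : Type v} [Field K] (T : TheoryOn.{u, v, w} k (IsVar k) K)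

theorem pullDeg_comp {X Y Z : Var k} (f : X ⟶ Y) (g : Y ⟶ Z) (i : ℤ) :
    T.pullDeg (f ≫ g) i = T.pullDeg f i ∘ₗ T.pullDeg g i := by
  refine LinearMap.ext fun x ↦ Subtype.ext ?_
  change T.pull (f ≫ g) (x : T.H Z) = T.pull f (T.pull g (x : T.H Z))
  rw [T.pull_comp, AlgHom.comp_apply]

theorem pullDeg_id (X : Var k) (i : ℤ) : T.pullDeg (𝟙 X) i = LinearMap.id := by
  refine LinearMap.ext fun x ↦ Subtype.ext ?_
  change T.pull (𝟙 X) (x : T.H X) = _
  rw [T.pull_id]
  rfl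

theorem exists_pullDeg_pow {X : Var k} (F : X ⟶ X) (m : ℕ) :
    ∃ G : X ⟶ X, ∀ i, T.pullDeg G i = T.pullDeg F i ^ m := by
  induction m with
  | zero => exact ⟨𝟙 X, fun i ↦ by rw [pow_zero, pullDeg_id]; rfl⟩
  | succ m ih =>
    obtain ⟨G, hG⟩ := ih
    exact ⟨F ≫ G, fun i ↦ by rw [pullDeg_comp, hG, pow_succ']; rfl⟩

theorem exists_polynomial_projector {X : Var k} (F : X ⟶ X)
    (hF : ∀ i j : ℤ, i ≠ j → IsCoprime (T.pullDeg F i).charpoly (T.pullDeg F j).charpoly) (i : ℤ) :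
    ∃ Q : K[X], ∀ j (b : T.gr X j), (aeval (T.pullDeg F j) Q b : T.H X) = if j = i then (b : T.H X) else 0 := by
  let S := (Finset.Icc (0 : ℤ) (2 * (dim X.obj.left : ℤ))).erase i
  obtain ⟨a, c, hac⟩ : IsCoprime (T.pullDeg F i).charpoly (∏ j ∈ S, (T.pullDeg F j).charpoly) :=
    IsCoprime.prod_right fun j hj ↦ hF i j (Finset.ne_of_mem_erase hj).symm
  refine ⟨c * ∏ j ∈ S, (T.pullDeg F j).charpoly, fun j b ↦ ?_⟩
  by_cases hji : j = i
  · subst hji
    rw [if_pos rfl, eq_sub_of_add_eq' hac, map_sub, map_one, map_mul, LinearMap.aeval_self_charpoly,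
      mul_zero]
    simp
  · rw [if_neg hji]
    by_cases hr : j < 0 ∨ 2 * (dim X.obj.left : ℤ) < j
    · exact eq_zero_of_degree T (Subtype.prop _) hr
    push Not at hr
    have hj : j ∈ S := Finset.mem_erase.2 ⟨hji, Finset.mem_Icc.2 hr⟩
    rw [← Finset.prod_erase_mul S _ hj, ← mul_assoc, map_mul, LinearMap.aeval_self_charpoly, mul_zero,
      LinearMap.zero_apply]
    rfl

theorem exists_kunneth_projector [CharZero K] {X P : Var k} {p q : P ⟶ X} (hP : IsProd p q) (F : X ⟶ X)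
    (hF : ∀ i j : ℤ, i ≠ j → IsCoprime (T.pullDeg F i).charpoly (T.pullDeg F j).charpoly) (i : ℤ) :
    ∃ u : ↥(T.gr P (2 * (dim X.obj.left : ℤ))),
      (u : T.H P) ∈ Submodule.span K (Set.range (T.cl P)) ∧
        ∀ (j : ℤ) (b : ↥(T.gr X j)),
          (T.push q (j + 2 * (dim X.obj.left : ℤ))
              ⟨T.pull p (b : T.H X) * (u : T.H P), mul_mem T (T.pull_mem p j b b.2) u.2⟩ : T.H X) =
            if j = i then (b : T.H X) else 0 := by
  have hd := dim_prod T hP
  obtain ⟨Q, hQ⟩ := exists_polynomial_projector T F hF i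
  choose G hG using exists_pullDeg_pow T F
  choose g hg₁ hg₂ using fun m ↦ exists_lift hP (G m) (𝟙 X)
  let u : T.H P := ∑ m ∈ Finset.range (Q.natDegree + 1), Q.coeff m • T.cl P (sm (g m) (genericPoint X.obj.left))
  have hmem : ∀ m, T.cl P (sm (g m) (genericPoint X.obj.left)) ∈ T.gr P (2 * (dim X.obj.left : ℤ)) := fun m ↦
    eq_of_mem T (by rw [hd]; ring) (cl_graph_mem T (hg₂ m))
  have hu : u ∈ T.gr P (2 * (dim X.obj.left : ℤ)) := Submodule.sum_mem _ fun m _ ↦ Submodule.smul_mem _ _ (hmem m)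
  refine ⟨⟨u, hu⟩, ?_, fun j b ↦ ?_⟩
  · change u ∈ _
    exact Submodule.sum_mem _ fun m _ ↦ Submodule.smul_mem _ _ (Submodule.subset_span (Set.mem_range_self _))
  rw [← hQ j b]
  refine push_eq T q _ _ (eq_of_mem T (by omega) (Subtype.prop _)) fun c _ ↦ ?_
  change T.tr X ((aeval (T.pullDeg F j) Q b : T.H X) * c) = T.tr P (T.pull p (b : T.H X) * u * T.pull q c)
  rw [aeval_eq_sum_range, LinearMap.sum_apply, Submodule.coe_sum, Finset.sum_mul, map_sum, Finset.mul_sum,
    Finset.sum_mul, map_sum]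
  refine Finset.sum_congr rfl fun m _ ↦ ?_
  rw [LinearMap.smul_apply, Submodule.coe_smul, smul_mul_assoc, map_smul, mul_smul_comm, smul_mul_assoc, map_smul,
    ← mul_comm_even T (hmem m), mul_assoc, tr_graph_mul T (hg₂ m), map_mul (T.pull (g m)), ← AlgHom.comp_apply, ← T.pull_comp,
    hg₁, ← AlgHom.comp_apply, ← T.pull_comp, hg₂, T.pull_id, AlgHom.id_apply, ← hG]
  rfl

end Groth.Agent.WeilH13
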