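import Groth.Agent.Lib.WeilH13.Corr

/-!
Pull-back of classes along an involution, graphs of iterates.
-/

set_option backward.isDefEq.respectTransparency.types false
universe u v w

open AlgebraicGeometry CategoryTheory

namespace Groth.Agent.WeilH13

open WeilCoh

variable {k : Type u} [Field k] {K : Type v} [Field K] (T : TheoryOn.{u, v, w} k (IsVar k) K)
variable {P : Var k} {σ : P ⟶ P}

theorem hom_ext_prod {X Y Z : Var k} {p : P ⟶ X} {q : P ⟶ Y} (hP : IsProd p q) {f g : Z ⟶ P}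
    (h₁ : f ≫ p = g ≫ p) (h₂ : f ≫ q = g ≫ q) : f = g :=
  ObjectProperty.hom_ext _ (Over.OverMorphism.ext (IsPullback.hom_ext hP
    (congrArg (fun φ : Z ⟶ X ↦ sm φ) h₁) (congrArg (fun φ : Z ⟶ Y ↦ sm φ) h₂)))

theorem exists_lift {X Y Z : Var k} {p : P ⟶ X} {q : P ⟶ Y} (hP : IsProd p q) (f : Z ⟶ X) (g : Z ⟶ Y) :
    ∃ j : Z ⟶ P, j ≫ p = f ∧ j ≫ q = g := by
  have hw : sm f ≫ X.obj.hom = sm g ≫ Y.obj.hom := (Over.w f.hom).trans (Over.w g.hom).symm
  refine ⟨ObjectProperty.homMk (Over.homMk (IsPullback.lift hP (sm f) (sm g) hw) ?_), ?_, ?_⟩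
  · rw [← Over.w p.hom, ← Category.assoc]
    exact (congrArg (· ≫ X.obj.hom) (IsPullback.lift_fst hP _ _ hw)).trans (Over.w f.hom)
  · exact ObjectProperty.hom_ext _ (Over.OverMorphism.ext (IsPullback.lift_fst hP _ _ hw))
  · exact ObjectProperty.hom_ext _ (Over.OverMorphism.ext (IsPullback.lift_snd hP _ _ hw))

theorem apply_apply (hσ : σ ≫ σ = 𝟙 P) (z : P.obj.left) : sm σ (sm σ z) = z := by
  rw [← Scheme.Hom.comp_apply]
  exact congrArg (fun φ : P ⟶ P ↦ sm φ z) hσ

theorem apply_genericPoint (hσ : σ ≫ σ = 𝟙 P) :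
    sm σ (genericPoint P.obj.left) = genericPoint P.obj.left := by
  refine (Specializes.antisymm ?_ (genericPoint_specializes _)).eq
  have := (genericPoint_specializes (sm σ (genericPoint P.obj.left))).map (sm σ).continuous
  rwa [apply_apply hσ] at this

theorem tr_pull_involution (hσ : σ ≫ σ = 𝟙 P) (c : T.H P) : T.tr P (T.pull σ c) = T.tr P c := by
  haveI := isClosedImmersion_section hσ
  induction c using induction_gr T with
  | hadd a b ha hb => simp only [map_add, ha, hb]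
  | hmem i c hc =>
    by_cases hi : i = 2 * (dim P.obj.left : ℤ)
    · rw [tr_pull T P P σ (apply_genericPoint hσ) rfl (eq_of_mem T hi hc),
        residueDegree_eq_one_of_surjectiveOnStalks, Nat.cast_one, one_mul]
    · rw [T.tr_vanish P i c hc hi, T.tr_vanish P i _ (T.pull_mem σ i c hc) hi]

theorem pull_cl_involution (hσ : σ ≫ σ = 𝟙 P) (ξ : P.obj.left) :
    T.pull σ (T.cl P ξ) = T.cl P (sm σ ξ) := by
  have hdeg : (codim P.obj.left (sm σ ξ) : ℤ) = codim P.obj.left ξ := by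
    rw [codim_cast, codim_cast, pdim_section hσ]
  refine ext_of_tr' T (T.pull_mem σ _ _ (T.cl_mem P ξ)) (eq_of_mem T (by rw [hdeg]) (T.cl_mem P _)) fun c ↦ ?_
  have hc : T.pull σ (T.pull σ c) = c := by
    rw [← AlgHom.comp_apply, ← T.pull_comp, hσ, T.pull_id, AlgHom.id_apply]
  conv_lhs => rw [← hc, ← map_mul, tr_pull_involution T hσ]
  exact (tr_cl_section_mul T hσ ξ c).symm

theorem pull_mem_span_cl (hσ : σ ≫ σ = 𝟙 P) {v : T.H P} (hv : v ∈ Submodule.span K (Set.range (T.cl P))) :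
    T.pull σ v ∈ Submodule.span K (Set.range (T.cl P)) := by
  induction hv using Submodule.span_induction with
  | mem x hx =>
    obtain ⟨ξ, rfl⟩ := hx
    exact Submodule.subset_span ⟨sm σ ξ, (pull_cl_involution T hσ ξ).symm⟩
  | zero => rw [map_zero]; exact Submodule.zero_mem _
  | add _ _ _ _ ha hb => rw [map_add]; exact Submodule.add_mem _ ha hb
  | smul c _ _ h => rw [map_smul]; exact Submodule.smul_mem _ _ h

omit σ in
theorem coe_act_congr {X Y : Var k} (p : P ⟶ X) (q : P ⟶ Y) {n n' i i' : ℤ} (hn : n = n') (hi : i = i')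
    (φ : T.gr P n) (φ' : T.gr P n') (hφ : (φ : T.H P) = φ') (x : T.gr X i) (x' : T.gr X i')
    (hx : (x : T.H X) = x') : (act T p q n i φ x : T.H Y) = act T p q n' i' φ' x' := by
  subst hn hi
  obtain rfl : φ = φ' := Subtype.ext hφ
  obtain rfl : x = x' := Subtype.ext hx
  rfl

end Groth.Agent.WeilH13
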