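import Groth.Agent.Lib.WeilH13.Alg
import Groth.Agent.Lib.VarDim.Scheme
import Groth.Agent.Lib.SmoothRed.Basic
import Mathlib.AlgebraicGeometry.ProjectiveSpectrum.Proper
import Mathlib.FieldTheory.IsAlgClosed.Basic
import Mathlib.AlgebraicGeometry.Morphisms.Proper
import Mathlib.AlgebraicGeometry.Morphisms.ClosedImmersion

/-!
Geometry of the objects `WeilCoh.Var k`: dimensions, the point, closed points.
-/

set_option backward.isDefEq.respectTransparency.types false
universe u v w

open AlgebraicGeometry CategoryTheory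

namespace Groth.Agent.WeilH13

open WeilCoh Groth.Agent.VarDim

variable {k : Type u} [Field k]

instance var_smooth (X : Var k) : Smooth X.obj.hom := X.property.1

instance var_irreducible (X : Var k) : IrreducibleSpace ↥X.obj.left := X.property.2.2

instance var_lft (X : Var k) : LocallyOfFiniteType X.obj.hom := inferInstance

instance var_reduced (X : Var k) : IsReduced X.obj.left := by
  have hred : ∀ U : X.obj.left.affineOpens, _root_.IsReduced Γ(X.obj.left, U.1) := by
    intro U
    letI : Algebra k Γ(X.obj.left, U.1) := (baseToSections X.obj.hom U.1).toAlgebra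
    haveI : Algebra.Smooth k Γ(X.obj.left, U.1) := by
      have h := Smooth.smooth_appLE X.obj.hom (isAffineOpen_top _) U.2 (e := by simp)
      rw [← RingHom.smooth_algebraMap]
      rw [RingHom.algebraMap_toAlgebra, baseToSections, CommRingCat.hom_comp]
      exact RingHom.Smooth.respectsIso.2 _
        (Scheme.ΓSpecIso (CommRingCat.of k)).symm.commRingCatIsoToRingEquiv h
    exact Groth.Agent.SmoothRed.isReduced_of_smooth_field k _
  haveI : ∀ x : X.obj.left, _root_.IsReduced (X.obj.left.presheaf.stalk x) := by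
    intro x
    obtain ⟨U, hU, hx, -⟩ := exists_isAffineOpen_mem_and_subset (U := (⊤ : X.obj.left.Opens)) (x := x) trivial
    letI := TopCat.Presheaf.algebra_section_stalk X.obj.left.presheaf (⟨x, hx⟩ : U)
    haveI := hU.isLocalization_stalk ⟨x, hx⟩
    exact isReduced_localizationPreserves (hU.primeIdealOf ⟨x, hx⟩).asIdeal.primeCompl _ (hred ⟨U, hU⟩)
  exact isReduced_of_isReduced_stalk _

theorem sdim_eq_pdim (X : Var k) (x : X.obj.left) : pdim X.obj.left x = sdim X.obj.hom x := by
  rw [pdim, natDim, dim_closure_singleton X.obj.hom x]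
  rfl

theorem sdim_genericPoint (X : Var k) :
    dim X.obj.left = sdim X.obj.hom (genericPoint X.obj.left) := by
  rw [dim, natDim, dim_eq_sdim_genericPoint X.obj.hom]
  rfl

theorem pdim_genericPoint (X : Var k) : pdim X.obj.left (genericPoint X.obj.left) = dim X.obj.left := by
  rw [sdim_eq_pdim, sdim_genericPoint]

theorem pdim_le_dim (X : Var k) (x : X.obj.left) : pdim X.obj.left x ≤ dim X.obj.left := by
  rw [sdim_eq_pdim, sdim_genericPoint]
  by_cases h : genericPoint X.obj.left = x
  · rw [h]
  · exact (sdim_lt_of_specializes _ (genericPoint_specializes x) h).le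

theorem codim_cast (X : Var k) (x : X.obj.left) :
    (codim X.obj.left x : ℤ) = dim X.obj.left - pdim X.obj.left x := by
  rw [codim, Nat.cast_sub (pdim_le_dim X x)]

theorem codim_genericPoint (X : Var k) : codim X.obj.left (genericPoint X.obj.left) = 0 := by
  rw [codim, pdim_genericPoint, Nat.sub_self]

theorem pdim_eq_zero_iff (X : Var k) (x : X.obj.left) :
    pdim X.obj.left x = 0 ↔ IsClosed ({x} : Set X.obj.left) := by
  rw [sdim_eq_pdim, sdim_eq_zero_iff_isClosed]

theorem sdim_comp_sm {X Y : Var k} (f : X ⟶ Y) (x : X.obj.left) :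
    sdim X.obj.hom x = sdim (sm f ≫ Y.obj.hom) x := by
  rw [Over.w f.hom]

instance lft_sm {X Y : Var k} (f : X ⟶ Y) : LocallyOfFiniteType (sm f) := by
  haveI : LocallyOfFiniteType (sm f ≫ Y.obj.hom) := by rw [Over.w f.hom]; infer_instance
  exact locallyOfFiniteType_of_comp (sm f) Y.obj.hom

theorem pdim_eq_of_residueDegree_ne_zero {X Y : Var k} (f : X ⟶ Y) (x : X.obj.left)
    (h : (sm f).residueDegree x ≠ 0) : pdim Y.obj.left (sm f x) = pdim X.obj.left x := by
  rw [sdim_eq_pdim, sdim_eq_pdim, sdim_comp_sm f x, sdim_comp_eq Y.obj.hom (sm f) x]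
  letI := ((sm f).residueFieldMap x).hom.toAlgebra
  haveI : Module.Finite (Y.obj.left.residueField (sm f x)) (X.obj.left.residueField x) :=
    Module.finite_of_finrank_pos (Nat.pos_of_ne_zero h)
  have : Algebra.trdeg (Y.obj.left.residueField (sm f x)) (X.obj.left.residueField x) = 0 :=
    trdeg_eq_zero
  rw [tdeg, this, map_zero, add_zero]

section Point

open Limits

theorem exists_hom_projSpace_zero (S : Scheme.{u}) :
    ∃ i : S ⟶ CohB1.ProjSpaceOver 0 S, i ≫ CohB1.ProjSpaceOver.toBase 0 S = 𝟙 S := by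
  let 𝒜 := CohB1.polyGrading 0 (ULift.{u} ℤ)
  let x : MvPolynomial (Fin 1) (ULift.{u} ℤ) := MvPolynomial.X 0
  have hx : x ∈ 𝒜 1 := MvPolynomial.isHomogeneous_X _ _
  let φ : HomogeneousLocalization.Away 𝒜 x →+* ULift.{u} ℤ :=
    (IsLocalization.Away.lift (S := Localization.Away x) x
      (g := (MvPolynomial.eval fun _ => (1 : ULift.{u} ℤ))) (by simp [x])).comp
      (algebraMap (HomogeneousLocalization.Away 𝒜 x) (Localization.Away x))
  let g : S ⟶ CohB1.ProjSpace 0 (ULift.{u} ℤ) :=
    specULiftZIsTerminal.from S ≫ Spec.map (CommRingCat.ofHom φ) ≫ Proj.awayι 𝒜 x hx zero_lt_one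
  exact ⟨pullback.lift g (𝟙 S) (specULiftZIsTerminal.hom_ext _ _), pullback.lift_snd _ _ _⟩

variable (k) in
theorem isVar_point : IsVar k (Over.mk (𝟙 (Spec (CommRingCat.of k)))) := by
  refine ⟨inferInstanceAs (Smooth (𝟙 _)), ?_, inferInstanceAs (IrreducibleSpace (Spec (CommRingCat.of k)))⟩
  obtain ⟨i, hi⟩ := exists_hom_projSpace_zero (Spec (CommRingCat.of k))
  haveI : IsSeparated (CohB1.ProjSpace.toSpec 0 (ULift.{u} ℤ)) := by
    unfold CohB1.ProjSpace.toSpec
    exact MorphismProperty.comp_mem _ _ _ (Proj.isSeparated _) inferInstance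
  haveI : IsSeparated (CohB1.ProjSpaceOver.toBase 0 (Spec (CommRingCat.of k))) := by
    unfold CohB1.ProjSpaceOver.toBase; exact MorphismProperty.pullback_snd _ _ inferInstance
  haveI : IsClosedImmersion (i ≫ CohB1.ProjSpaceOver.toBase 0 (Spec (CommRingCat.of k))) := by
    rw [hi]; infer_instance
  exact ⟨0, i, IsClosedImmersion.of_comp i (CohB1.ProjSpaceOver.toBase 0 _), hi⟩

variable (k) in
/-- The point `Spec k` as an object. -/
noncomputable def point : Var k := ⟨Over.mk (𝟙 _), isVar_point k⟩

/-- The morphism to the point. -/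
noncomputable def toPoint (X : Var k) : X ⟶ point k :=
  ObjectProperty.homMk (Over.homMk X.obj.hom (Category.comp_id _))

theorem sm_toPoint (X : Var k) : sm (toPoint X) = X.obj.hom := rfl

theorem dim_point : dim (point k).obj.left = 0 := by
  have : topologicalKrullDim (Spec (CommRingCat.of k)) = 0 :=
    PrimeSpectrum.topologicalKrullDim_eq_ringKrullDim k |>.trans (ringKrullDim_eq_zero_of_field k)
  rw [dim, natDim]
  change (((topologicalKrullDim (Spec (CommRingCat.of k))).unbotD 0)).toNat = 0
  rw [this]; rfl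

end Point

section AlgClosed

variable [IsAlgClosed k]

theorem residueDegree_toPoint (X : Var k) (x : X.obj.left) (hx : IsClosed ({x} : Set X.obj.left)) :
    X.obj.hom.residueDegree x = 1 := by
  letI := resAlg X.obj.hom x
  have h0 : Algebra.trdeg k (X.obj.left.residueField x) = 0 := by
    rw [trdeg_residueField X.obj.hom x, (sdim_eq_zero_iff_isClosed _ x).2 hx, Nat.cast_zero]
  haveI : Algebra.IsAlgebraic k (X.obj.left.residueField x) := trdeg_eq_zero_iff.1 h0
  have hbij := IsAlgClosed.algebraMap_bijective_of_isIntegral (k := k) (K := X.obj.left.residueField x)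
  have hsurj : Function.Surjective (X.obj.hom.residueFieldMap x) := by
    intro b
    obtain ⟨c, hc⟩ := hbij.2 b
    refine ⟨baseToRes (𝟙 (Spec (CommRingCat.of k))) (X.obj.hom x) c, ?_⟩
    have h := RingHom.congr_fun (baseToRes_comp (𝟙 (Spec (CommRingCat.of k))) X.obj.hom x) c
    rw [← hc]
    refine h.symm.trans ?_
    change baseToRes (X.obj.hom ≫ 𝟙 _) x c = baseToRes X.obj.hom x c
    rw [Category.comp_id]
  letI := (X.obj.hom.residueFieldMap x).hom.toAlgebra
  exact (LinearEquiv.ofBijective (Algebra.linearMap _ (X.obj.left.residueField x))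
    ⟨(X.obj.hom.residueFieldMap x).hom.injective, hsurj⟩).finrank_eq.symm.trans (Module.finrank_self _)

end AlgClosed

end Groth.Agent.WeilH13
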