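import Groth.Agent.Lib.WeilH13.Count
import Groth.Agent.Lib.WeilH13.FunEq
import Mathlib.Algebra.BigOperators.Field

/-!
The cohomological formula for the zeta function and rationality.
-/

set_option backward.isDefEq.respectTransparency.types false
universe u v w

open AlgebraicGeometry CategoryTheory

namespace Groth.Agent.WeilH13

open WeilCoh PowerSeries

section Series

variable {K : Type v} [Field K] [CharZero K]

theorem constantCoeff_subst_exp {a : PowerSeries K} (ha : constantCoeff a = 0) :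
    constantCoeff (subst a (exp K)) = 1 := by
  rw [← coeff_zero_eq_constantCoeff, coeff_subst' (HasSubst.of_constantCoeff_zero' ha),
    finsum_eq_single _ 0 fun d hd ↦ by simp [coeff_zero_eq_constantCoeff, map_pow, ha, zero_pow hd]]
  simp

theorem subst_add_exp {a b : PowerSeries K} (ha : constantCoeff a = 0) (hb : constantCoeff b = 0) :
    subst (a + b) (exp K) = subst a (exp K) * subst b (exp K) := by
  have hab : constantCoeff (a + b) = 0 := by simp [ha, hb]
  refine eq_of_derivative_eq_mul (h := d⁄dX K (a + b)) ?_ ?_ ?_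
  · rw [derivative_subst (HasSubst.of_constantCoeff_zero' hab), derivative_exp]
  · rw [Derivation.leibniz, derivative_subst (HasSubst.of_constantCoeff_zero' ha),
      derivative_subst (HasSubst.of_constantCoeff_zero' hb), derivative_exp, map_add, smul_eq_mul, smul_eq_mul]
    ring
  · rw [map_mul, constantCoeff_subst_exp hab, constantCoeff_subst_exp ha, constantCoeff_subst_exp hb, mul_one]

theorem subst_zero_exp : subst (0 : PowerSeries K) (exp K) = 1 := by
  refine eq_of_derivative_eq_mul (h := 0) ?_ (by simp) ?_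
  · rw [derivative_subst (HasSubst.of_constantCoeff_zero' (map_zero _)), map_zero, mul_zero, mul_zero]
  · rw [constantCoeff_subst_exp (map_zero _), map_one]

theorem subst_sum_exp {ι : Type*} (s : Finset ι) (g : ι → PowerSeries K) (hg : ∀ i, constantCoeff (g i) = 0) :
    subst (∑ i ∈ s, g i) (exp K) = ∏ i ∈ s, subst (g i) (exp K) := by
  classical
  induction s using Finset.induction with
  | empty => simpa using subst_zero_exp
  | insert a s ha ih =>
    rw [Finset.sum_insert ha, Finset.prod_insert ha,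
      subst_add_exp (hg a) (by simp [hg]), ih]

/-- Rationality descends along an extension of fields. -/
theorem exists_polynomial_mul_eq_descent {L : Type u} {L' : Type w} [Field L] [Field L'] [Algebra L L']
    {f : PowerSeries L} {P Q : Polynomial L'} (hQ : Q ≠ 0)
    (h : PowerSeries.map (algebraMap L L') f * (Q : PowerSeries L') = (P : PowerSeries L')) :
    ∃ P Q : Polynomial L, Q ≠ 0 ∧ f * (Q : PowerSeries L) = (P : PowerSeries L) := by
  obtain ⟨i, hi⟩ : ∃ i, Q.coeff i ≠ 0 := by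
    by_contra hall; push Not at hall; exact hQ (Polynomial.ext fun n ↦ by simpa using hall n)
  let b := Module.Free.chooseBasis L L'
  obtain ⟨t, ht⟩ : ∃ t, b.coord t (Q.coeff i) ≠ 0 := by
    by_contra hall; push Not at hall; exact hi (b.forall_coord_eq_zero_iff.1 hall)
  let lam := b.coord t
  let tr : Polynomial L' → Polynomial L := fun R ↦ ∑ n ∈ R.support, Polynomial.monomial n (lam (R.coeff n))
  have htr : ∀ R n, (tr R).coeff n = lam (R.coeff n) := by
    intro R n
    simp only [tr, Polynomial.finset_sum_coeff, Polynomial.coeff_monomial, Finset.sum_ite_eq']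
    split_ifs with hn
    · rfl
    · rw [Polynomial.notMem_support_iff.1 hn, map_zero]
  refine ⟨tr P, tr Q, fun h0 ↦ ht ?_, ?_⟩
  · have := htr Q i; rw [h0, Polynomial.coeff_zero] at this; exact this.symm
  · ext n
    rw [Polynomial.coeff_coe, htr, ← Polynomial.coeff_coe, ← h, PowerSeries.coeff_mul, PowerSeries.coeff_mul,
      map_sum]
    refine Finset.sum_congr rfl fun x _ ↦ ?_
    rw [Polynomial.coeff_coe, Polynomial.coeff_coe, htr, PowerSeries.coeff_map, ← Algebra.smul_def,
      map_smul, smul_eq_mul]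

end Series

namespace FrobData

variable {k₀ k : Type u} [Field k₀] [Finite k₀] [Field k] [IsAlgClosed k] [Algebra k₀ k]
  (D : FrobData k₀ k) [LocallyOfFiniteType D.f]
  {K : Type v} [Field K] [CharZero K] (T : TheoryOn.{u, v, w} k (IsVar k) K)

omit [Finite k₀] [IsAlgClosed k] [LocallyOfFiniteType D.f] [CharZero K] in
theorem pullDeg_Fm (i : ℤ) : ∀ m, T.pullDeg (D.Fm m) i = (T.pullDeg D.F i) ^ m
  | 0 => by
    ext a
    change T.pull (𝟙 D.Xb) (a : T.H D.Xb) = (a : T.H D.Xb)
    rw [T.pull_id]; rfl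
  | m + 1 => by
    rw [pow_succ, ← pullDeg_Fm i m]
    ext a
    change T.pull (D.Fm m ≫ D.F) (a : T.H D.Xb) = T.pull (D.Fm m) (T.pull D.F (a : T.H D.Xb))
    rw [T.pull_comp]; rfl

theorem nPts_eq_trace {P : Var k} {p q : P ⟶ D.Xb} (hP : IsProd p q) {m : ℕ} (hm : 0 < m) :
    (Zeta.nPts D.f m : K) = ∑ i ∈ Finset.range (2 * dim D.Xb.obj.left + 1),
      (-1 : K) ^ i * LinearMap.trace K ↥(T.gr D.Xb (i : ℤ)) ((T.pullDeg D.F (i : ℤ)) ^ m) := by
  let sect : (φ : D.Xb ⟶ D.Xb) → (D.Xb ⟶ P) := fun φ ↦ ObjectProperty.homMk (Over.homMk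
    (IsPullback.lift hP (𝟙 _) (sm φ) ((Category.id_comp _).trans (Over.w φ.hom).symm)) (by
      rw [← Over.w p.hom]
      refine (IsPullback.lift_fst_assoc hP _ _ _ _).trans (Category.id_comp _)))
  have hsp : ∀ φ, sect φ ≫ p = 𝟙 _ := fun φ ↦
    ObjectProperty.hom_ext _ (Over.OverMorphism.ext (IsPullback.lift_fst hP _ _ _))
  have hsq : ∀ φ, sect φ ≫ q = φ := fun φ ↦
    ObjectProperty.hom_ext _ (Over.OverMorphism.ext (IsPullback.lift_snd hP _ _ _))
  rw [← D.card_fixSet hm hP (hsp (D.Fm m)) (hsq (D.Fm m)) (hsp (𝟙 _)) (hsq (𝟙 _)),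
    ← tr_graph_mul_diag m (hsp (D.Fm m)) (hsq (D.Fm m)) (hsp (𝟙 _)) (hsq (𝟙 _)) T hP hm,
    trace_formula T hP (hsp (D.Fm m)) (hsq (D.Fm m)) (hsp (𝟙 _)) (hsq (𝟙 _))]
  exact Finset.sum_congr rfl fun i _ ↦ by rw [D.pullDeg_Fm T]

/-- `-log P_i`. -/
noncomputable def logP (i : ℕ) : PowerSeries K :=
  PowerSeries.mk fun m ↦ -(LinearMap.trace K ↥(T.gr D.Xb (i : ℤ)) ((T.pullDeg D.F (i : ℤ)) ^ m)) / (m : K)

omit [Finite k₀] [IsAlgClosed k] [LocallyOfFiniteType D.f] in
theorem P_eq_exp (i : ℕ) :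
    ((LinearMap.charpoly (T.pullDeg D.F (i : ℤ))).reverse : PowerSeries K) = subst (D.logP T i) (exp K) := by
  let b := Module.finBasis K ↥(T.gr D.Xb (i : ℤ))
  rw [← LinearMap.charpoly_toMatrix (T.pullDeg D.F (i : ℤ)) b, Matrix.reverse_charpoly, charpolyRev_eq_exp]
  congr 2
  funext m
  rw [LinearMap.trace_eq_matrix_trace K b]
  congr 3
  exact (map_pow (LinearMap.toMatrixAlgEquiv b) (T.pullDeg D.F (i : ℤ)) m).symm

theorem zeta_formula {P : Var k} {p q : P ⟶ D.Xb} (hP : IsProd p q) :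
    PowerSeries.map (algebraMap ℚ K) (Zeta.zetaFun D.f) *
        (∏ i ∈ Finset.range (dim D.Xb.obj.left + 1),
          ((LinearMap.charpoly (T.pullDeg D.F ((2 * i : ℕ) : ℤ))).reverse : PowerSeries K)) =
      ∏ i ∈ Finset.range (dim D.Xb.obj.left),
        ((LinearMap.charpoly (T.pullDeg D.F ((2 * i + 1 : ℕ) : ℤ))).reverse : PowerSeries K) := by
  have hc : ∀ i, constantCoeff (D.logP T i) = 0 := fun i ↦ by simp [logP]
  have hL : constantCoeff (Zeta.logZeta D.f) = 0 := by simp [Zeta.logZeta]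
  have hmap : PowerSeries.map (algebraMap ℚ K) (Zeta.zetaFun D.f) =
      subst (PowerSeries.map (algebraMap ℚ K) (Zeta.logZeta D.f)) (exp K) := by
    rw [Zeta.zetaFun, PowerSeries.map, PowerSeries.map_subst (HasSubst.of_constantCoeff_zero' hL)]
    congr 1
    all_goals exact PowerSeries.map_exp (A := ℚ) (algebraMap ℚ K)
  have hL' : constantCoeff (PowerSeries.map (algebraMap ℚ K) (Zeta.logZeta D.f)) = 0 := by
    rw [← coeff_zero_eq_constantCoeff, coeff_map, coeff_zero_eq_constantCoeff, hL, map_zero]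
  simp only [D.P_eq_exp T, hmap]
  rw [← subst_sum_exp _ _ fun i ↦ hc (2 * i), ← subst_sum_exp _ _ fun i ↦ hc (2 * i + 1),
    ← subst_add_exp hL' (by simp [hc])]
  congr 1
  ext m
  simp only [map_add, map_sum, coeff_map, logP, coeff_mk, Zeta.logZeta, map_div₀, map_natCast, ← Finset.sum_div]
  rcases Nat.eq_zero_or_pos m with rfl | hm
  · simp
  rw [← add_div, D.nPts_eq_trace T hP hm, sum_range_two_mul_add_one]
  congr 1
  simp only [(even_two_mul _).neg_one_pow, (odd_two_mul_add_one _).neg_one_pow, one_mul, neg_one_mul,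
    Finset.sum_neg_distrib]
  ring

theorem zeta_rational {P : Var k} {p q : P ⟶ D.Xb} (hP : IsProd p q)
    (T : TheoryOn.{u, v, w} k (IsVar k) K) :
    ∃ P Q : Polynomial ℚ, Q ≠ 0 ∧ Zeta.zetaFun D.f * (Q : PowerSeries ℚ) = (P : PowerSeries ℚ) := by
  refine exists_polynomial_mul_eq_descent
    (Q := ∏ i ∈ Finset.range (dim D.Xb.obj.left + 1),
      (LinearMap.charpoly (T.pullDeg D.F ((2 * i : ℕ) : ℤ))).reverse)
    (P := ∏ i ∈ Finset.range (dim D.Xb.obj.left),
      (LinearMap.charpoly (T.pullDeg D.F ((2 * i + 1 : ℕ) : ℤ))).reverse) ?_ ?_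
  · exact Finset.prod_ne_zero_iff.2 fun i _ h0 ↦ by
      have := (LinearMap.charpoly_monic (T.pullDeg D.F ((2 * i : ℕ) : ℤ))).ne_zero
      exact this (Polynomial.reverse_eq_zero.1 h0)
  · rw [← Polynomial.coeToPowerSeries.ringHom_apply, ← Polynomial.coeToPowerSeries.ringHom_apply,
      map_prod, map_prod]
    exact D.zeta_formula T hP

end FrobData

end Groth.Agent.WeilH13
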